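import Mathlib

/-!
Arithmetic of the column of an involution in a principal 2-block with eight-element defect group and one class of
involutions: `∑ χ(z)³/χ(1) ≥ 1/7`.
-/

set_option autoImplicit false

namespace Cfsg.Agent.EightSeven

open Finset

theorem sq_zero_or {ι : Type*} {R : Finset ι} (V : ι → ℤ) (h : ∑ χ ∈ R, V χ * V χ ≤ 0) :
    ∀ χ ∈ R, V χ = 0 := fun χ hχ => mul_self_eq_zero.1
  ((sum_eq_zero_iff_of_nonneg fun ψ _ => mul_self_nonneg (V ψ)).1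
    (le_antisymm h (sum_nonneg fun ψ _ => mul_self_nonneg (V ψ))) χ hχ)

/-- With total square one or less, the sums over `R` are either empty or a single term. -/
theorem single_of_sq_le_one {ι : Type*} [DecidableEq ι] {R : Finset ι} (V : ι → ℤ)
    (h : ∑ χ ∈ R, V χ * V χ ≤ 1) :
    (∀ χ ∈ R, V χ = 0) ∨ ∃ χ₁ ∈ R, (V χ₁ = 1 ∨ V χ₁ = -1) ∧ ∀ χ ∈ R, χ ≠ χ₁ → V χ = 0 := by
  by_cases hall : ∀ χ ∈ R, V χ = 0
  · exact Or.inl hall
  push Not at hall
  obtain ⟨χ₁, hχ₁, hne⟩ := hall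
  have h1 : 1 ≤ V χ₁ * V χ₁ := by nlinarith [mul_self_pos.2 hne]
  rw [← add_sum_erase _ _ hχ₁] at h
  have h0 := sq_zero_or (R := R.erase χ₁) V (by omega)
  have h2 : 0 ≤ ∑ χ ∈ R.erase χ₁, V χ * V χ := sum_nonneg fun ψ _ => mul_self_nonneg (V ψ)
  have h3 : V χ₁ * V χ₁ = 1 := by omega
  exact Or.inr ⟨χ₁, hχ₁, mul_self_eq_one_iff.1 h3, fun χ hχ hne => h0 χ (mem_erase.2 ⟨hne, hχ⟩)⟩

theorem one_seventh_le {ι : Type*} [Fintype ι] [DecidableEq ι] (V : ι → ℤ) (z : ι) (deg : ι → ℕ)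
    (h8 : ∑ χ, V χ * V χ = 8) (hz : V z = 1) (hdz : deg z = 1)
    (hdeg : ∀ χ, χ ≠ z → 1 < deg χ) (hzero : ∑ χ, V χ * (deg χ : ℤ) = 0)
    (hcong : ∀ χ, V χ ≠ 0 → ∃ n : ℕ, (deg χ : ℤ) + 7 * V χ = 8 * n)
    (hne : ∀ χ, χ ≠ z → V χ ≠ 0 → (deg χ : ℤ) ≠ V χ) :
    (1 / 7 : ℚ) ≤ ∑ χ, (V χ : ℚ) ^ 3 / deg χ := by
  set s := (univ : Finset ι).erase z with hs
  have hz' : z ∈ (univ : Finset ι) := mem_univ z
  rw [← add_sum_erase _ _ hz', hz, ← hs] at h8
  rw [← add_sum_erase _ _ hz', hz, hdz, ← hs] at hzero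
  rw [← add_sum_erase _ _ hz', hz, hdz, ← hs]
  norm_num at h8 hzero ⊢
  replace h8 : ∑ χ ∈ s, V χ * V χ = 7 := by linarith
  replace hzero : ∑ χ ∈ s, V χ * (deg χ : ℤ) = -1 := by linarith
  have hsz : ∀ χ ∈ s, χ ≠ z := fun χ hχ => (mem_erase.1 hχ).1
  have hb : ∀ χ ∈ s, -2 ≤ V χ ∧ V χ ≤ 2 := by
    intro χ hχ
    have h1 : V χ * V χ ≤ 7 := h8 ▸ single_le_sum (fun ψ _ => mul_self_nonneg (V ψ)) hχ
    constructor <;> nlinarith
  have hd : ∀ χ ∈ s, (0 : ℚ) < deg χ := fun χ hχ => by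
    have := hdeg χ (hsz χ hχ)
    exact_mod_cast (show 0 < deg χ by omega)
  have hd7 : ∀ χ ∈ s, V χ = -1 → deg χ = 7 ∨ 15 ≤ deg χ := by
    intro χ hχ e
    obtain ⟨n, hn⟩ := hcong χ (by omega)
    rw [e] at hn
    omega
  have hd14 : ∀ χ ∈ s, V χ = -2 → deg χ = 14 ∨ 22 ≤ deg χ := by
    intro χ hχ e
    obtain ⟨n, hn⟩ := hcong χ (by omega)
    rw [e] at hn
    omega
  let T := s.filter fun χ => V χ = -1 ∧ deg χ = 7
  -- bounds outside `T`
  have hlow : ∀ χ ∈ s, V χ ≠ -2 → χ ∉ T → -((V χ * V χ : ℤ) : ℚ) / 15 ≤ (V χ : ℚ) ^ 3 / deg χ := by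
    intro χ hχ h2 hT
    have hp := hd χ hχ
    obtain ⟨h1, h1'⟩ := hb χ hχ
    have hc : V χ = -1 ∨ 0 ≤ V χ := by omega
    rcases hc with e | e
    · have h15 : 15 ≤ deg χ := (hd7 χ hχ e).resolve_left fun h => hT (mem_filter.2 ⟨hχ, e, h⟩)
      rw [e, div_le_div_iff₀ (by norm_num) hp]
      have : (15 : ℚ) ≤ deg χ := by exact_mod_cast h15
      push_cast
      linarith
    · refine le_trans ?_ (div_nonneg (pow_nonneg (by exact_mod_cast e) 3) hp.le)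
      exact div_nonpos_of_nonpos_of_nonneg (neg_nonpos.2 (by exact_mod_cast mul_self_nonneg (V χ))) (by norm_num)
  have hseven : ∀ χ ∈ T, (V χ : ℚ) ^ 3 / deg χ = -1 / 7 := fun χ hχ => by
    obtain ⟨-, e1, e2⟩ := mem_filter.1 hχ
    rw [e1, e2]; norm_num
  have hT1 : ∑ χ ∈ T, V χ * V χ = T.card := by
    rw [sum_congr rfl fun χ hχ => show V χ * V χ = 1 by rw [(mem_filter.1 hχ).2.1]; rfl]
    simp
  have hT2 : ∑ χ ∈ T, V χ * (deg χ : ℤ) = -7 * T.card := by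
    rw [sum_congr rfl fun χ hχ => show V χ * (deg χ : ℤ) = -7 by
      rw [(mem_filter.1 hχ).2.1, (mem_filter.1 hχ).2.2]; rfl]
    simp [mul_comm]
  have hT3 : ∑ χ ∈ T, (V χ : ℚ) ^ 3 / deg χ = -(T.card : ℚ) / 7 := by
    rw [sum_congr rfl hseven]
    simp; ring
  have hTs : T ⊆ s := filter_subset _ _
  -- a single remaining term
  have hsingle : ∀ R ⊆ s, (∀ χ ∈ R, χ ∉ T) → ∑ χ ∈ R, V χ * V χ ≤ 1 → ∀ c : ℤ, c < 0 →
      c + ∑ χ ∈ R, V χ * (deg χ : ℤ) = 0 → ∑ χ ∈ R, (V χ : ℚ) ^ 3 / deg χ = 1 / (-c : ℚ) := by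
    intro R hR _ hR1 c hc hsum
    rcases single_of_sq_le_one V hR1 with h0 | ⟨χ₁, hχ₁, hv, h0⟩
    · rw [sum_eq_zero fun χ hχ => by rw [h0 χ hχ, zero_mul]] at hsum
      omega
    · rw [sum_eq_single χ₁ (fun χ hχ h => by rw [h0 χ hχ h, zero_mul]) (fun h => absurd hχ₁ h)] at hsum
      rw [sum_eq_single χ₁ (fun χ hχ h => by simp [h0 χ hχ h]) (fun h => absurd hχ₁ h)]
      rcases hv with e | e
      · rw [e, one_mul] at hsum
        have e' : (deg χ₁ : ℚ) = -c := by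
          have : (deg χ₁ : ℤ) = -c := by linarith
          exact_mod_cast congrArg (fun x : ℤ => (x : ℚ)) this
        rw [e, e']; norm_num
      · rw [e] at hsum
        have : (0 : ℤ) ≤ deg χ₁ := Int.natCast_nonneg _
        linarith
  by_cases hA : ∃ χ₀ ∈ s, V χ₀ = -2
  · obtain ⟨χ₀, hχ₀, e0⟩ := hA
    have hr : ∑ χ ∈ s.erase χ₀, V χ * V χ = 3 := by
      rw [← add_sum_erase _ _ hχ₀, e0] at h8
      linarith
    have hr2 : ∀ χ ∈ s.erase χ₀, V χ ≠ -2 := by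
      intro χ hχ e
      have := single_le_sum (f := fun ψ => V ψ * V ψ) (fun ψ _ => mul_self_nonneg (V ψ)) hχ
      rw [hr, e] at this
      norm_num at this
    rw [← add_sum_erase _ _ hχ₀, e0] at hzero
    rw [← add_sum_erase _ _ hχ₀, e0]
    have hTe : T ⊆ s.erase χ₀ := fun χ hχ => mem_erase.2
      ⟨fun e => by rw [e] at hχ; have := (mem_filter.1 hχ).2.1; omega, hTs hχ⟩
    rw [← sum_sdiff hTe, hT1] at hr
    rw [← sum_sdiff hTe, hT2] at hzero
    rw [← sum_sdiff hTe, hT3]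
    set R := s.erase χ₀ \ T
    have hRs : R ⊆ s := fun χ hχ => (erase_subset _ _) (mem_sdiff.1 hχ).1
    have hRb : -(((3 : ℤ) - T.card : ℤ) : ℚ) / 15 ≤ ∑ χ ∈ R, (V χ : ℚ) ^ 3 / deg χ := by
      rw [← eq_sub_iff_add_eq.2 hr, Int.cast_sum, ← sum_neg_distrib, sum_div]
      exact sum_le_sum fun χ hχ => hlow χ (hRs hχ) (hr2 χ (mem_sdiff.1 hχ).1) (mem_sdiff.1 hχ).2
    push_cast at hRb
    have hR0 : 0 ≤ ∑ χ ∈ R, V χ * V χ := sum_nonneg fun ψ _ => mul_self_nonneg (V ψ)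
    have hTle : T.card ≤ 3 := by omega
    have hTq : (T.card : ℚ) ≤ 3 := by exact_mod_cast hTle
    rcases hd14 χ₀ hχ₀ e0 with h14 | h22
    · rw [h14] at hzero ⊢
      rcases Nat.lt_or_ge T.card 2 with hk | hk
      · have : (T.card : ℚ) ≤ 1 := by exact_mod_cast (show T.card ≤ 1 by omega)
        norm_num
        linarith
      · have h := hsingle R hRs (fun χ hχ => (mem_sdiff.1 hχ).2) (by omega)
          (1 - 28 - 7 * T.card) (by omega) (by push_cast at hzero ⊢; linarith)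
        rw [h]
        interval_cases T.card
        · norm_num
        · -- three sevens leave nothing
          exfalso
          rcases single_of_sq_le_one V (R := R) (by omega) with h0 | ⟨χ₁, hχ₁, hv, -⟩
          · rw [sum_eq_zero fun χ hχ => by rw [h0 χ hχ, zero_mul]] at hzero
            norm_num at hzero
          · have := single_le_sum (f := fun ψ => V ψ * V ψ) (fun ψ _ => mul_self_nonneg (V ψ)) hχ₁
            rcases hv with e | e <;> rw [e] at this <;> norm_num at this <;> omega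
    · have : (22 : ℚ) ≤ deg χ₀ := by exact_mod_cast h22
      have h8d : (8 : ℚ) / deg χ₀ ≤ 4 / 11 := by rw [div_le_div_iff₀ (by linarith) (by norm_num)]; linarith
      have e3 : ((-2 : ℤ) : ℚ) ^ 3 / deg χ₀ = -(8 / deg χ₀) := by norm_num [neg_div]
      rw [e3]
      linarith
  · push Not at hA
    rw [← sum_sdiff hTs, hT1] at h8
    rw [← sum_sdiff hTs, hT2] at hzero
    rw [← sum_sdiff hTs, hT3]
    set R := s \ T
    have hRb : -(((7 : ℤ) - T.card : ℤ) : ℚ) / 15 ≤ ∑ χ ∈ R, (V χ : ℚ) ^ 3 / deg χ := by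
      rw [← eq_sub_iff_add_eq.2 h8, Int.cast_sum, ← sum_neg_distrib, sum_div]
      exact sum_le_sum fun χ hχ => hlow χ (mem_sdiff.1 hχ).1 (hA χ (mem_sdiff.1 hχ).1) (mem_sdiff.1 hχ).2
    push_cast at hRb
    rcases Nat.lt_or_ge T.card 6 with hk | hk
    · have : (T.card : ℚ) ≤ 5 := by exact_mod_cast (show T.card ≤ 5 by omega)
      linarith
    · have hR0 : 0 ≤ ∑ χ ∈ R, V χ * V χ := sum_nonneg fun ψ _ => mul_self_nonneg (V ψ)
      have hTle : T.card ≤ 7 := by omega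
      have h := hsingle R sdiff_subset (fun χ hχ => (mem_sdiff.1 hχ).2) (by omega)
        (1 - 7 * T.card) (by omega) (by linarith)
      rw [h]
      interval_cases T.card
      · norm_num
      · exfalso
        have h0 := sq_zero_or (R := R) V (by omega)
        rw [sum_eq_zero fun χ hχ => by rw [h0 χ hχ, zero_mul]] at hzero
        norm_num at hzero

end Cfsg.Agent.EightSeven
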