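import Cfsg.Agent.Lib.EightSeven.Setting
import Cfsg.Agent.Lib.EightSeven.Comb
import Cfsg.Agent.Lib.EightSylow.Main
import Cfsg.Agent.Lib.Exceptional.ClassPairs

/-!
# The class equation: `|G| ≤ 2688 |W|`
-/

set_option autoImplicit false
set_option linter.style.haveILetI false

namespace Cfsg.Agent.EightSeven

open Subgroup
open scoped ComplexConjugate

universe u

variable {G : Type u} [Group G] [Finite G] {S : Sylow 2 G}

namespace Hyp

theorem eq_one_of_mem_core (h : Hyp S) {z x : G} (hz : z ∈ (S : Subgroup G)) (hz1 : z ≠ 1)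
    (hx : x ∈ (S : Subgroup G)) (hxo : x ∈ core z) : x = 1 := by
  by_contra hne
  have ho := ((h.mem_core_iff hz hz1).1 hxo).2
  rw [h.orderOf_eq hx hne] at ho
  exact absurd ho (by decide)

theorem conj_mem_core (h : Hyp S) {z a x : G} (hz : z ∈ (S : Subgroup G)) (hz1 : z ≠ 1)
    (ha : a ∈ (S : Subgroup G)) (hx : x ∈ core z) : a * x * a⁻¹ ∈ core z := by
  have h1 := h.conj_core hz hz1 (le_normalizer ha) hx
  rwa [h.comm ha hz, mul_inv_cancel_right] at h1

theorem mem_invSet_of_invol (h : Hyp S) {z a o : G} (ha : a ∈ (S : Subgroup G)) (ho : o ∈ core z)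
    (e : a * o * (a * o) = 1) : o ∈ invSet (core z) a :=
  ⟨ho, eq_inv_of_mul_eq_one_left (by rw [h.inv_eq ha]; simpa [mul_assoc] using e)⟩

theorem invol_of_mem_invSet (h : Hyp S) {z a o : G} (hz : z ∈ (S : Subgroup G)) (hz1 : z ≠ 1)
    (ha : a ∈ (S : Subgroup G)) (ha1 : a ≠ 1) (ho : o ∈ invSet (core z) a) :
    a * o * (a * o) = 1 ∧ a * o ≠ 1 := by
  refine ⟨?_, fun e => ha1 ?_⟩
  · have e := ho.2
    rw [h.inv_eq ha] at e
    rw [← mul_assoc, e, inv_mul_cancel]
  · refine h.eq_one_of_mem_core hz hz1 ha ?_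
    rw [eq_inv_of_mul_eq_one_left e]
    exact inv_mem ho.1

open Classical in
/-- The pairs of involutions with product in `z O(C(z))`. -/
noncomputable def pairs [Fintype G] (z : G) : Finset (G × G) :=
  ((Exceptional.invols G) ×ˢ (Exceptional.invols G)).filter fun p => z * (p.1 * p.2) ∈ core z

theorem card_pairs [Fintype G] (h : Hyp S) {z : G} (hz : z ∈ (S : Subgroup G)) (hz1 : z ≠ 1) :
    Nat.card (core z) * (pairs z).card = 6 * Nat.card (bigW S) := by
  classical
  have hsq := h.sq hz
  set A := ((Finset.univ.filter fun g : G => g ∈ (S : Subgroup G)).erase 1).erase z with hA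
  have memA : ∀ {a : G}, a ∈ A ↔ a ∈ (S : Subgroup G) ∧ a ≠ 1 ∧ a ≠ z := by
    intro a; simp [hA]; tauto
  have hA6 : A.card = 6 := by
    rw [hA, Finset.card_erase_of_mem (by simp [hz, hz1]), Finset.card_erase_of_mem (by simp),
      ← Fintype.card_subtype, ← Nat.card_eq_fintype_card]
    have : Nat.card {x : G // x ∈ (S : Subgroup G)} = 8 := h.card_eight
    rw [this]
  let D : Finset (Σ _ : G, G × G) := A.sigma fun a =>
    (Finset.univ.filter fun o => o ∈ invSet (core z) a) ×ˢ (Finset.univ.filter fun o => o ∈ invSet (core z) (z * a))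
  have hcard : (pairs z).card = D.card := by
    symm
    refine Finset.card_bij (fun d _ => (d.1 * d.2.1, z * d.1 * d.2.2)) ?_ ?_ ?_
    · rintro ⟨a, o, o'⟩ hd
      simp only [D, Finset.mem_sigma, Finset.mem_product, Finset.mem_filter, Finset.mem_univ, true_and] at hd
      obtain ⟨hd1, ho, ho'⟩ := hd
      obtain ⟨ha, ha1, hne⟩ := memA.1 hd1
      have hza : z * a ≠ 1 := fun e => hne (by rw [eq_inv_of_mul_eq_one_right e, h.inv_eq hz])
      simp only [pairs, Finset.mem_filter, Finset.mem_product, Exceptional.mem_invols]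
      refine ⟨⟨h.invol_of_mem_invSet hz hz1 ha ha1 ho,
        h.invol_of_mem_invSet hz hz1 (mul_mem hz ha) hza ho'⟩, ?_⟩
      have e : z * (a * o * (z * a * o')) = ((z * a) * o * (z * a)⁻¹) * o' := by
        rw [h.inv_eq (mul_mem hz ha)]
        simp only [mul_assoc]
      rw [e]
      exact mul_mem (h.conj_mem_core hz hz1 (mul_mem hz ha) ho.1) ho'.1
    · rintro ⟨a, o, o'⟩ hd ⟨b, p, p'⟩ hd' e
      simp only [D, Finset.mem_sigma, Finset.mem_product, Finset.mem_filter, Finset.mem_univ, true_and] at hd hd'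
      obtain ⟨hd1, ho, ho'⟩ := hd
      obtain ⟨hd1', hp, hp'⟩ := hd'
      simp only [Prod.mk.injEq] at e
      have hab : a = b := by
        have : b⁻¹ * a = 1 := h.eq_one_of_mem_core hz hz1 (mul_mem (inv_mem (memA.1 hd1').1) (memA.1 hd1).1) (by
          rw [show b⁻¹ * a = p * o⁻¹ by rw [eq_mul_inv_iff_mul_eq, mul_assoc, e.1, inv_mul_cancel_left]]
          exact mul_mem hp.1 (inv_mem ho.1))
        exact (inv_mul_eq_one.1 this).symm
      subst hab
      simp [mul_left_cancel e.1, mul_left_cancel e.2]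
    · rintro ⟨u, v⟩ hp
      simp only [pairs, Finset.mem_filter, Finset.mem_product, Exceptional.mem_invols] at hp
      obtain ⟨⟨⟨hu, hu1⟩, hv, hv1⟩, hO⟩ := hp
      obtain ⟨hcz, hodd⟩ := (h.mem_core_iff hz hz1).1 hO
      have huC : u * z = z * u := mem_centralizer_singleton_iff.1
        (EightSylow.sect_pair (t := z) (by rw [pow_two, hsq]) hu hv
          ⟨z * (u * v), hodd, hcz, by rw [← mul_assoc, hsq, one_mul]⟩)
      have hvC : v * z = z * v := by
        have h1 : Commute z (u * v) := by
          have := (show Commute z (z * (u * v)) from hcz.symm)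
          have h2 := ((Commute.refl z).inv_right).mul_right this
          rwa [inv_mul_cancel_left] at h2
        have h2 := ((show Commute z u from huC.symm).inv_right).mul_right h1
        rw [inv_mul_cancel_left] at h2
        exact h2.symm.eq
      obtain ⟨o, ho, s, hs, e⟩ := h.exists_decomp hz hz1 huC
      obtain ⟨o', ho', s', hs', e'⟩ := h.exists_decomp hz hz1 hvC
      have eu : u = s * o⁻¹ := by
        rw [← inv_eq_of_mul_eq_one_right hu, e, mul_inv_rev, h.inv_eq hs]
      have ev : v = s' * o'⁻¹ := by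
        rw [← inv_eq_of_mul_eq_one_right hv, e', mul_inv_rev, h.inv_eq hs']
      have hzss : z * s * s' = 1 := by
        refine h.eq_one_of_mem_core hz hz1 (mul_mem (mul_mem hz hs) hs') ?_
        have e2 : z * s * s' = z * (u * v) * o' * (s'⁻¹ * o * s'⁻¹⁻¹) := by
          rw [eu, ev]; group
        rw [e2]
        exact mul_mem (mul_mem hO ho') (h.conj_mem_core hz hz1 (inv_mem hs') ho)
      have hs'eq : s' = z * s := by
        rw [← inv_eq_of_mul_eq_one_right hzss, h.inv_eq (mul_mem hz hs)]
      have hodd1 : ∀ {w y : G}, w * w = 1 → w ≠ 1 → y ∈ core z → w = y → False := by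
        intro w y hw hw1 hy hwy
        have h2 := ((h.mem_core_iff hz hz1).1 hy).2
        rw [← hwy, orderOf_eq_prime (by rw [pow_two, hw]) hw1] at h2
        exact absurd h2 (by decide)
      have hs1 : s ≠ 1 := fun h1 => hodd1 hu hu1 (inv_mem ho) (by rw [eu, h1, one_mul])
      have hsz : s ≠ z := fun h1 => hodd1 hv hv1 (inv_mem ho') (by rw [ev, hs'eq, h1, hsq, one_mul])
      refine ⟨⟨s, o⁻¹, o'⁻¹⟩, ?_, by simp only [eu, ev, hs'eq]⟩
      simp only [D, Finset.mem_sigma, Finset.mem_product, Finset.mem_filter, Finset.mem_univ, true_and]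
      exact ⟨memA.2 ⟨hs, hs1, hsz⟩, h.mem_invSet_of_invol hs (inv_mem ho) (by rw [← eu]; exact hu),
        h.mem_invSet_of_invol (mul_mem hz hs) (inv_mem ho') (by rw [← hs'eq, ← ev]; exact hv)⟩
  rw [hcard, Finset.card_sigma, Finset.mul_sum, Finset.sum_congr rfl (g := fun _ => Nat.card (bigW S)),
    Finset.sum_const, hA6, smul_eq_mul]
  intro a ha
  obtain ⟨haS, ha1, hne⟩ := memA.1 ha
  have hc : ∀ b : G, (Finset.univ.filter fun o => o ∈ invSet (core z) b).card = Nat.card (invSet (core z) b) := by
    intro b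
    rw [← Fintype.card_subtype, ← Nat.card_eq_fintype_card]
  rw [Finset.card_product, hc, hc, h.invSet_mul hz hz1, ← mul_assoc]
  exact (h.card_bigW haS ha1 hz hz1 hne).symm

theorem card_le (h : Hyp S) : Nat.card G ≤ 2688 * Nat.card (bigW S) := by
  classical
  haveI := h.simple
  haveI : Fact (Nat.Prime 2) := ⟨Nat.prime_two⟩
  haveI := Fintype.ofFinite G
  obtain ⟨z, hzS, hz1, -, -⟩ := h.exists_third 1 1
  have hzsq := h.sq hzS
  have hz2 : z ^ 2 = 1 := by rw [pow_two, hzsq]
  have hzord := h.orderOf_eq hzS hz1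
  set C := centralizer ({z} : Set G) with hC
  haveI := Fintype.ofFinite C
  set zc : C := ⟨z, mem_centralizer_singleton_iff.2 rfl⟩ with hzc
  set O := pPrimeCore 2 C with hO
  haveI : O.Normal := by rw [hO]; infer_instance
  have memO : ∀ c : C, c ∈ O ↔ (c : G) ∈ core z := fun c => by
    rw [show core z = O.map C.subtype from rfl, mem_map]
    exact ⟨fun hc => ⟨c, hc, rfl⟩, fun ⟨d, hd, e⟩ => by rwa [← Subtype.ext e]⟩
  have hcardO : Nat.card O = Nat.card (core z) := (card_map_of_injective C.subtype_injective).symm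
  have hO0 : (Nat.card O : ℂ) ≠ 0 := Nat.cast_ne_zero.2 Nat.card_pos.ne'
  have hCcard : Nat.card C = 8 * Nat.card O := by rw [hcardO]; exact h.card_centralizer hzS hz1
  haveI : Group.IsSolvable C := by
    obtain ⟨K, hKn, hKodd, hKS⟩ := h.exists_complement hzS hz1
    haveI := S0205.result hKodd
    haveI : Group.IsNilpotent (C ⧸ K) := by
      refine IsPGroup.isNilpotent (p := 2) (IsPGroup.of_card (n := 3) ?_)
      exact (hKS.symm.index_eq_card.trans
        ((Nat.card_congr (subgroupOfEquivOfLe (h.le_centralizer_S hzS)).toEquiv).trans h.card_eight))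
    exact Group.isSolvable_of_ker_le_range (K.subtype) (QuotientGroup.mk' K) (by simp)
  set θ : C → ℂ := fun c => if zc * c ∈ O then 8 else 0 with hθ
  have hS0 : ∀ c : C, (c : G) ∉ EightSylow.sect z → θ c = 0 := by
    intro c hc
    refine if_neg fun hm => hc ?_
    obtain ⟨hcomm, hodd⟩ := (h.mem_core_iff hzS hz1).1 ((memO _).1 hm)
    exact ⟨_, hodd, hcomm, by simp [hzc, ← mul_assoc, hzsq]⟩
  have hsum : ∀ f : C → ℂ, ∑ c : C, θ c * f c = 8 * ∑ o : O, f (zc * (o : C)) := by
    intro f
    rw [← Fintype.sum_equiv (Equiv.mulLeft zc) (fun c => θ (zc * c) * f (zc * c)) (fun c => θ c * f c)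
      (fun _ => rfl), Finset.mul_sum]
    rw [← Finset.sum_subtype (Finset.univ.filter fun c : C => c ∈ O) (fun c => by simp)
      (fun c => 8 * f (zc * c)), Finset.sum_filter]
    refine Finset.sum_congr rfl fun c _ => ?_
    have e : zc * (zc * c) = c := Subtype.ext (by simp [hzc, ← mul_assoc, hzsq])
    simp only [hθ, e]
    split_ifs <;> simp
  have hθcl : IsClassFunction C θ := by
    intro g a
    have e : zc * (a * g * a⁻¹) = a * (zc * g) * a⁻¹ := by
      have : Commute a zc := Subtype.ext (mem_centralizer_singleton_iff.1 a.2)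
      rw [← mul_assoc, ← mul_assoc, ← this.eq, mul_assoc a zc g]
    simp only [hθ, e]
    refine if_congr ?_ rfl rfl
    constructor
    · intro hm
      simpa [mul_assoc] using (inferInstance : O.Normal).conj_mem _ hm a⁻¹
    · exact fun hm => (inferInstance : O.Normal).conj_mem _ hm a
  -- the values at `z`
  choose w hw using fun χ : IrrCharacter G =>
    Exceptional.exists_int_apply_invol (Char.irr_isCharacter χ) hzsq
  obtain ⟨M, hM⟩ := ZStar.exists_isPModular_two
  haveI := hM.2.1
  have htpow : ∃ k : ℕ, orderOf z = 2 ^ k := ⟨1, by rw [hzord, pow_one]⟩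
  let V : IrrCharacter G → ℤ := fun χ => if χ ∈ principalBlock M G then w χ else 0
  set F := indFun C θ with hF
  have hinner : ∀ χ : IrrCharacter G, classInner F χ.1 = (V χ : ℂ) := by
    intro χ
    rw [hF, Char.classInner_indFun C θ (Char.IsCharacter.isClassFunction (Char.irr_isCharacter χ)), classInner,
      hsum]
    simp only [V]
    split_ifs with hχ
    · have hc : ∀ o : O, χ.1 ((zc * (o : C) : C) : G) = χ.1 z := fun o => by
        have := ZStar.apply_mul_pPrimeCore hM htpow (v := ((o : C) : G)) (mem_map_of_mem _ o.2) hχ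
        rw [← this]; rfl
      simp only [hc, Finset.sum_const, Finset.card_univ, nsmul_eq_mul, ← Nat.card_eq_fintype_card, hCcard,
        hw, map_intCast]
      push_cast
      field_simp
    · have h1 := (ZStar.sum_principal_blockCoeff hM.2.2 htpow χ 1
        (by rw [orderOf_one]; norm_num)).2 hχ
      rw [finsum_eq_sum_of_fintype] at h1
      simp only [EightSylow.blockCoeff_solvable hM, ite_mul, zero_mul, ← Finset.sum_filter, ← Finset.mul_sum,
        mul_eq_zero, inv_eq_zero, mul_one] at h1
      have h' := h1.resolve_left hO0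
      rw [Finset.sum_subtype (p := (· ∈ O)) _ (fun k => by
        rw [Finset.mem_filter]; exact and_iff_right (Finset.mem_univ k))] at h'
      have h'' : ∑ o : O, conj (χ.1 ((zc * (o : C) : C) : G)) = 0 := by
        rw [← map_sum]
        exact (congrArg conj h').trans (map_zero _)
      simp only [h'', mul_zero, Int.cast_zero]
  have hFcl : IsClassFunction G F := Char.isClassFunction_indFun C θ
  have hFsum : F = ∑ χ : IrrCharacter G, (V χ : ℂ) • χ.1 := by
    rw [Char.eq_sum_classInner_smul hFcl]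
    simp only [hinner]
  have h8 : ∑ χ, V χ * V χ = 8 := by
    have h1 := CharInt.classInner_indFun_ti (ψ := θ) (θ := θ) (EightSylow.sect_ti hz2) hS0 hθcl hS0
    rw [← hF, Char.classInner_eq_sum hFcl] at h1
    have h2 : classInner θ θ = 8 := by
      rw [classInner, hsum]
      have : ∀ o : O, conj (θ (zc * (o : C))) = 8 := fun o => by
        have e : zc * (zc * (o : C)) = o := Subtype.ext (by simp [hzc, ← mul_assoc, hzsq])
        simp only [hθ, e, if_pos o.2, map_ofNat]
      simp only [this, Finset.sum_const, Finset.card_univ, nsmul_eq_mul, ← Nat.card_eq_fintype_card, hCcard]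
      push_cast
      field_simp
    rw [h2] at h1
    have e : ∀ χ : IrrCharacter G, classInner F χ.1 * classInner χ.1 F = ((V χ * V χ : ℤ) : ℂ) := fun χ => by
      rw [← Char.conj_classInner F χ.1, hinner]
      simp
    simp only [e, ← Int.cast_sum] at h1
    exact_mod_cast h1
  have hzero : ∑ χ, V χ * (Char.degree χ : ℤ) = 0 := by
    have h1 : F 1 = 0 := CharInt.indFun_eq_zero_of_support hS0 fun g hg => by
      rw [mul_one, inv_mul_cancel] at hg
      obtain ⟨y, hy, -, e⟩ := hg
      rw [← inv_eq_of_mul_eq_one_right e.symm, orderOf_inv, hzord] at hy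
      exact absurd hy (by decide)
    rw [hFsum] at h1
    simp only [Finset.sum_apply, Pi.smul_apply, smul_eq_mul, Char.apply_one_eq_degree] at h1
    exact_mod_cast h1
  have htriv : V (Char.trivialChar G) = 1 := by
    simp only [V]
    rw [if_pos (show Char.trivialChar G ∈ principalBlock M G from Cfsg.Agent.Blocks.sameBlock_refl _)]
    have := hw (Char.trivialChar G)
    rw [Char.trivialChar_apply] at this
    exact_mod_cast this.symm
  have hVw : ∀ χ, V χ ≠ 0 → χ.1 z = (V χ : ℂ) := by
    intro χ hχ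
    simp only [V] at hχ ⊢
    split_ifs with hm
    · exact hw χ
    · rw [if_neg hm] at hχ; exact absurd rfl hχ
  have hconjT : ∀ u : G, orderOf u = 2 → ∀ χ : IrrCharacter G, χ.1 u = χ.1 z := fun u hu χ =>
    Char.IsClassFunction.apply_of_isConj (Char.IsCharacter.isClassFunction (Char.irr_isCharacter χ))
      (EightSylow.isConj_involution S h.elem h.card_eight h.perfect hu hzord)
  haveI := Fintype.ofFinite (S : Subgroup G)
  have hcong : ∀ χ, V χ ≠ 0 → ∃ n : ℕ, (Char.degree χ : ℤ) + 7 * V χ = 8 * n := by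
    intro χ h0
    obtain ⟨n, hn⟩ := Char.IsCharacter.exists_nat_classInner
      (Char.IsCharacter.restrict (Char.irr_isCharacter χ) (S : Subgroup G)) Char.isCharacter_one
    refine ⟨n, ?_⟩
    simp only [classInner, map_one, mul_one] at hn
    rw [SmallSimple.sum_over_nontrivial (fun s : (S : Subgroup G) => χ.1 s) (χ.1 z) (fun s hs =>
      hconjT s (h.orderOf_eq s.2 fun e => hs (Subtype.ext e)) χ), ← Nat.card_eq_fintype_card,
      h.card_eight, OneMemClass.coe_one, Char.apply_one_eq_degree, hVw χ h0] at hn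
    have h8' : ((((Char.degree χ : ℤ) + 7 * V χ : ℤ)) : ℂ) = ((8 * n : ℤ) : ℂ) := by
      push_cast at hn ⊢
      linear_combination 8 * hn
    exact_mod_cast h8'
  have hne : ∀ χ, χ ≠ Char.trivialChar G → V χ ≠ 0 → (Char.degree χ : ℤ) ≠ V χ := by
    intro χ hχ h0 e
    have h1 : χ.1 z = χ.1 1 := by rw [hVw χ h0, ← e, Char.apply_one_eq_degree]; simp
    set K := CharInt.charKernel (Char.irr_isCharacter χ)
    haveI : K.Normal := CharInt.charKernel_normal _
    rcases (inferInstance : K.Normal).eq_bot_or_eq_top with hK | hK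
    · exact hz1 (mem_bot.1 (hK ▸ ((CharInt.mem_charKernel _).2 h1) : z ∈ (⊥ : Subgroup G)))
    · have h2 := Char.sum_apply_eq_zero hχ
      rw [Finset.sum_congr rfl fun g _ => (CharInt.mem_charKernel _).1 (hK ▸ mem_top g : g ∈ K),
        Finset.sum_const, Finset.card_univ, nsmul_eq_mul, mul_eq_zero] at h2
      rcases h2 with h2 | h2
      · exact Fintype.card_ne_zero (α := G) (by exact_mod_cast h2)
      · exact Char.IsIrrCharacter.apply_one_ne_zero χ.2 h2
  have hdeg : ∀ χ, χ ≠ Char.trivialChar G → 1 < Char.degree χ := by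
    intro χ hχ
    by_contra hlt
    have h1 : Char.degree χ = 1 := le_antisymm (not_lt.1 hlt) (Char.degree_pos χ)
    exact hχ (SmallSimple.eq_trivialChar_of_degree_one h.nonab χ
      (by rw [Char.apply_one_eq_degree, h1, Nat.cast_one]))
  have hbound := one_seventh_le V (Char.trivialChar G) Char.degree h8 htriv (by
    have h1 := Char.apply_one_eq_degree (Char.trivialChar G)
    rw [Char.trivialChar_apply] at h1
    exact_mod_cast h1.symm) hdeg hzero hcong hne
  set Sg : ℚ := ∑ χ, (V χ : ℚ) ^ 3 / Char.degree χ with hSg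
  set N := (Exceptional.invols G).card with hN
  have hN0 : (N : ℂ) ≠ 0 := Nat.cast_ne_zero.2 (Finset.card_ne_zero.2
    ⟨z, Exceptional.mem_invols.2 ⟨hzsq, hz1⟩⟩)
  have hNC : (N : ℂ) * (Nat.card C : ℂ) = (Nat.card G : ℂ) := by
    rw [← Char.card_centralizer_mul_card_conj z, Nat.cast_mul, mul_comm, hN, ← Fintype.card_coe,
      ← Nat.card_eq_fintype_card]
    congr 2
    refine Nat.card_congr (Equiv.subtypeEquivRight fun x => ?_)
    rw [Exceptional.mem_invols]
    constructor
    · exact fun hx => EightSylow.isConj_involution S h.elem h.card_eight h.perfect hzord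
        (orderOf_eq_prime (by rw [pow_two]; exact hx.1) hx.2)
    · intro hx
      obtain ⟨g, rfl⟩ := isConj_iff.1 hx
      exact ⟨by rw [conj_mul, hzsq, mul_one, mul_inv_cancel], fun e => hz1 (conj_eq_one_iff.1 e)⟩
  have hpi : Exceptional.pairInv F = (N : ℂ) ^ 2 * (Sg : ℂ) := by
    have h1 : Exceptional.pairInv F = ∑ χ : IrrCharacter G, (V χ : ℂ) * Exceptional.pairInv χ.1 := by
      rw [hFsum]
      simp only [Exceptional.pairInv, Finset.sum_apply, Pi.smul_apply, smul_eq_mul, Finset.mul_sum]
      exact (Finset.sum_congr rfl fun u _ => Finset.sum_comm).trans Finset.sum_comm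
    rw [h1, hSg, Rat.cast_sum, Finset.mul_sum]
    refine Finset.sum_congr rfl fun χ _ => ?_
    by_cases h0 : V χ = 0
    · simp [h0]
    · have hs : Exceptional.sumInv χ.1 = (N : ℂ) * χ.1 z := by
        rw [Exceptional.sumInv, Finset.sum_congr rfl fun u hu => hconjT u ?_ χ, Finset.sum_const, nsmul_eq_mul]
        exact orderOf_eq_prime (by rw [pow_two]; exact (Exceptional.mem_invols.1 hu).1)
          (Exceptional.mem_invols.1 hu).2
      have h2 := Exceptional.apply_one_mul_pairInv χ.2
      rw [hs, Char.apply_one_eq_degree, hVw χ h0] at h2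
      have hd : (Char.degree χ : ℂ) ≠ 0 := Nat.cast_ne_zero.2 (Char.degree_pos χ).ne'
      push_cast
      field_simp
      linear_combination h2
  have hpc : Exceptional.pairInv F = (N : ℂ) * (8 * (pairs z).card) := by
    have hext : ∀ g : G, extendByZero C θ g = if z * g ∈ core z then 8 else 0 := by
      intro g
      by_cases hg : g ∈ C
      · rw [Char.extendByZero_of_mem _ _ hg, hθ]
        exact if_congr (memO _) rfl rfl
      · rw [Char.extendByZero_of_notMem _ _ hg, if_neg fun hm => hg ?_]
        have := mul_mem (inv_mem zc.2) ((h.core_le_centralizer z) hm)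
        simpa [hzc] using this
    have hin : ∀ x : G, ∑ u ∈ Exceptional.invols G, ∑ v ∈ Exceptional.invols G,
        extendByZero C θ (x⁻¹ * (u * v) * x) = 8 * ((pairs z).card : ℂ) := by
      intro x
      have e : ∀ u v : G, x⁻¹ * (u * v) * x = x⁻¹ * u * x⁻¹⁻¹ * (x⁻¹ * v * x⁻¹⁻¹) := fun u v => by group
      simp only [e]
      rw [Exceptional.sum_invols_conj x⁻¹ fun u => ∑ v ∈ Exceptional.invols G,
        extendByZero C θ (u * (x⁻¹ * v * x⁻¹⁻¹))]
      rw [Finset.sum_congr rfl fun u _ => Exceptional.sum_invols_conj x⁻¹ fun v => extendByZero C θ (u * v)]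
      rw [← Finset.sum_product', pairs]
      simp only [hext, ← Finset.sum_filter, Finset.sum_const, nsmul_eq_mul]
      ring
    simp only [Exceptional.pairInv, hF, indFun, ← Finset.mul_sum]
    rw [Finset.sum_congr rfl fun u _ => Finset.sum_comm, Finset.sum_comm, Finset.sum_congr rfl fun x _ => hin x,
      Finset.sum_const, Finset.card_univ, nsmul_eq_mul, ← Nat.card_eq_fintype_card, ← hNC]
    have hC0 : (Nat.card C : ℂ) ≠ 0 := Nat.cast_ne_zero.2 Nat.card_pos.ne'
    field_simp
  have hkey : (Nat.card G : ℚ) * Sg = 384 * (Nat.card (bigW S) : ℚ) := by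
    have h1 : (N : ℂ) * (Sg : ℂ) = 8 * ((pairs z).card : ℂ) := by
      refine mul_left_cancel₀ hN0 ?_
      rw [← mul_assoc, ← pow_two, ← hpi, hpc]
    have h2 : (Nat.card (core z) : ℂ) * ((pairs z).card : ℂ) = 6 * (Nat.card (bigW S) : ℂ) := by
      exact_mod_cast h.card_pairs hzS hz1
    have h3 : (Nat.card G : ℂ) * (Sg : ℂ) = 384 * (Nat.card (bigW S) : ℂ) := by
      rw [← hNC, hCcard, hcardO]
      push_cast
      linear_combination (8 * (Nat.card (core z) : ℂ)) * h1 + 64 * h2
    exact_mod_cast h3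
  have h4 : (Nat.card G : ℚ) * (1 / 7) ≤ 384 * (Nat.card (bigW S) : ℚ) :=
    hkey ▸ mul_le_mul_of_nonneg_left hbound (Nat.cast_nonneg _)
  have h5 : (Nat.card G : ℚ) ≤ ((2688 * Nat.card (bigW S) : ℕ) : ℚ) := by push_cast; linarith
  exact_mod_cast h5

end Hyp

end Cfsg.Agent.EightSeven
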