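import Mathlib

/-!
# Involutions acting on groups of odd order

For a subgroup `W` of odd order and an involution `a` normalising it, `W` is the product of the fixed subgroup
and the set of inverted elements.  For two commuting involutions this gives the formula of Brauer and Wielandt.
-/

set_option autoImplicit false

namespace Cfsg.Agent.EightSeven

open Subgroup

variable {G : Type*} [Group G]

/-- The elements of `W` inverted by `a`. -/
def invSet (W : Subgroup G) (a : G) : Set G := {x | x ∈ W ∧ a * x * a⁻¹ = x⁻¹}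

theorem mem_invSet {W : Subgroup G} {a x : G} : x ∈ invSet W a ↔ x ∈ W ∧ a * x * a⁻¹ = x⁻¹ := Iff.rfl

theorem mem_fix {W : Subgroup G} {a x : G} : x ∈ W ⊓ centralizer ({a} : Set G) ↔ x ∈ W ∧ a * x * a⁻¹ = x := by
  rw [mem_inf, mem_centralizer_singleton_iff, mul_inv_eq_iff_eq_mul, eq_comm]

theorem invSet_mul_mul {W : Subgroup G} {a x y : G} (hx : x ∈ invSet W a) (hy : y ∈ invSet W a) :
    x * y * x ∈ invSet W a := by
  refine ⟨mul_mem (mul_mem hx.1 hy.1) hx.1, ?_⟩
  calc a * (x * y * x) * a⁻¹ = (a * x * a⁻¹) * (a * y * a⁻¹) * (a * x * a⁻¹) := by group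
    _ = (x * y * x)⁻¹ := by rw [hx.2, hy.2]; group

theorem invSet_pow {W : Subgroup G} {a x : G} (hx : x ∈ invSet W a) (n : ℕ) : x ^ n ∈ invSet W a :=
  ⟨pow_mem hx.1 n, by rw [← conj_pow, hx.2, inv_pow]⟩

theorem invSet_inv {W : Subgroup G} {a x : G} (hx : x ∈ invSet W a) : x⁻¹ ∈ invSet W a :=
  ⟨inv_mem hx.1, by rw [← conj_inv, hx.2]⟩

/-- The square root in a group of odd order. -/
noncomputable def root (W : Subgroup G) (x : G) : G := x ^ ((Nat.card W + 1) / 2)

theorem root_mul_self {W : Subgroup G} (hW : Odd (Nat.card W)) {x : G} (hx : x ∈ W) :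
    root W x * root W x = x := by
  obtain ⟨k, hk⟩ := hW
  have h : x ^ Nat.card W = 1 := congrArg Subtype.val (pow_card_eq_one' (x := (⟨x, hx⟩ : W)))
  rw [root, ← pow_add, show (Nat.card W + 1) / 2 + (Nat.card W + 1) / 2 = Nat.card W + 1 by omega, pow_succ, h,
    one_mul]

theorem root_mem {W : Subgroup G} {x : G} (hx : x ∈ W) : root W x ∈ W := pow_mem hx _

theorem eq_root {W : Subgroup G} (hW : Odd (Nat.card W)) {x y : G} (hy : y ∈ W) (h : y * y = x) :
    y = root W x := by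
  obtain ⟨k, hk⟩ := hW
  have hc : y ^ Nat.card W = 1 := congrArg Subtype.val (pow_card_eq_one' (x := (⟨y, hy⟩ : W)))
  rw [root, ← h, ← pow_two, ← pow_mul, show 2 * ((Nat.card W + 1) / 2) = Nat.card W + 1 by omega, pow_succ, hc,
    one_mul]

theorem sq_inj {W : Subgroup G} (hW : Odd (Nat.card W)) {x y : G} (hx : x ∈ W) (hy : y ∈ W)
    (h : x * x = y * y) : x = y := (eq_root hW hx h).trans (eq_root hW hy rfl).symm

/-- The inner square root: `z⁻¹ √(z x z) z⁻¹` with `z = √v`, the only `y` with `y v y = x`. -/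
noncomputable def mean (W : Subgroup G) (x v : G) : G :=
  (root W v)⁻¹ * root W (root W v * x * root W v) * (root W v)⁻¹

theorem mean_spec {W : Subgroup G} (hW : Odd (Nat.card W)) {x v : G} (hx : x ∈ W) (hv : v ∈ W) :
    mean W x v * v * mean W x v = x := by
  set z := root W v with hz
  set r := root W (z * x * z) with hr
  have hz2 : z * z = v := root_mul_self hW hv
  have hr2 : r * r = z * x * z := root_mul_self hW (mul_mem (mul_mem (root_mem hv) hx) (root_mem hv))
  calc mean W x v * v * mean W x v = z⁻¹ * r * z⁻¹ * (z * z) * (z⁻¹ * r * z⁻¹) := by rw [hz2]; rfl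
    _ = z⁻¹ * (r * r) * z⁻¹ := by group
    _ = x := by rw [hr2]; group

theorem mean_unique {W : Subgroup G} (hW : Odd (Nat.card W)) {x v y : G} (hv : v ∈ W)
    (hy : y ∈ W) (h : y * v * y = x) : y = mean W x v := by
  set z := root W v with hz
  have hz2 : z * z = v := root_mul_self hW hv
  have h1 : z * y * z = root W (z * x * z) := by
    refine eq_root hW (mul_mem (mul_mem (root_mem hv) hy) (root_mem hv)) ?_
    rw [← h, ← hz2]; group
  calc y = z⁻¹ * (z * y * z) * z⁻¹ := by group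
    _ = mean W x v := by rw [h1]; rfl

theorem mean_mem_invSet {W : Subgroup G} {a x v : G} (hx : x ∈ invSet W a) (hv : v ∈ invSet W a) :
    mean W x v ∈ invSet W a :=
  invSet_mul_mul (invSet_inv (invSet_pow hv _)) (invSet_pow (invSet_mul_mul (invSet_pow hv _) hx) _)

/-- `W` is the product of the fixed subgroup of `a` and the set of elements inverted by `a`. -/
theorem card_fix_mul_card_invSet [Finite G] {W : Subgroup G} (hW : Odd (Nat.card W)) {a : G} (ha : a * a = 1)
    (hN : a ∈ normalizer (W : Set G)) :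
    Nat.card W = Nat.card ↥(W ⊓ centralizer ({a} : Set G)) * Nat.card (invSet W a) := by
  rw [← Nat.card_prod]
  symm
  have hinv : a⁻¹ = a := inv_eq_of_mul_eq_one_right ha
  refine Nat.card_eq_of_bijective (fun p => (⟨(p.1 : G) * (p.2 : G), mul_mem (mem_inf.1 p.1.2).1 p.2.2.1⟩ : W))
    ⟨?_, ?_⟩
  · rintro ⟨⟨c, hc⟩, ⟨i, hi⟩⟩ ⟨⟨c', hc'⟩, ⟨i', hi'⟩⟩ he
    have he : c * i = c' * i' := congrArg Subtype.val he
    have e2 : c * i⁻¹ = c' * i'⁻¹ := by
      have h := congrArg (fun y => a * y * a⁻¹) he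
      simp only [← conj_mul, (mem_fix.1 hc).2, (mem_fix.1 hc').2, hi.2, hi'.2] at h
      exact h
    have hii : i = i' := by
      refine sq_inj hW hi.1 hi'.1 ?_
      calc i * i = (c * i⁻¹)⁻¹ * (c * i) := by group
        _ = (c' * i'⁻¹)⁻¹ * (c' * i') := by rw [he, e2]
        _ = i' * i' := by group
    subst hii
    simp [mul_right_cancel he]
  · rintro ⟨x, hx⟩
    set xa := a * x * a⁻¹ with hxa
    have hxaW : xa ∈ W := (mem_normalizer_iff.1 hN x).1 hx
    have hy : xa⁻¹ * x ∈ W := mul_mem (inv_mem hxaW) hx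
    set i := root W (xa⁻¹ * x) with hi
    have hback : a * xa * a⁻¹ = x := by
      rw [hxa, hinv]
      calc a * (a * x * a) * a = (a * a) * x * (a * a) := by group
        _ = x := by rw [ha]; group
    have hia : a * i * a⁻¹ = i⁻¹ := by
      have h1 : a * (xa⁻¹ * x) * a⁻¹ = (xa⁻¹ * x)⁻¹ := by
        rw [← conj_mul, ← conj_inv, hback, ← hxa]
        group
      rw [hi, root, ← conj_pow, h1, inv_pow]
    have hii : i * i = xa⁻¹ * x := root_mul_self hW hy
    refine ⟨⟨⟨x * i⁻¹, mem_fix.2 ⟨mul_mem hx (inv_mem (root_mem hy)), ?_⟩⟩, ⟨i, root_mem hy, hia⟩⟩, ?_⟩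
    · rw [← conj_mul, ← hxa, ← conj_inv, hia, inv_inv]
      calc xa * i = xa * (i * i) * i⁻¹ := by group
        _ = x * i⁻¹ := by rw [hii]; group
    · ext; simp

/-- The set inverted by `a` splits along a commuting involution `b`. -/
theorem card_invSet_eq [Finite G] {W : Subgroup G} (hW : Odd (Nat.card W)) {a b : G} (hb : b * b = 1)
    (hab : a * b = b * a) (hNb : b ∈ normalizer (W : Set G)) :
    Nat.card (invSet W a) = Nat.card (invSet (W ⊓ centralizer ({b} : Set G)) a) *
      Nat.card (invSet (W ⊓ centralizer ({a * b} : Set G)) a) := by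
  rw [← Nat.card_prod]
  symm
  have hinv : b⁻¹ = b := inv_eq_of_mul_eq_one_right hb
  have habc : ∀ y : G, a * b * y * (a * b)⁻¹ = b * (a * y * a⁻¹) * b⁻¹ := fun y => by rw [hab]; group
  have hinvb : ∀ {p : G}, p ∈ W ⊓ centralizer ({a * b} : Set G) → a * p * a⁻¹ = p⁻¹ → b * p * b⁻¹ = p⁻¹ := by
    intro p hp hap
    have h := (mem_fix.1 hp).2
    rw [habc, hap, ← conj_inv] at h
    exact inv_eq_iff_eq_inv.1 h
  refine Nat.card_eq_of_bijective (fun t => (⟨(t.2 : G) * (t.1 : G) * (t.2 : G),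
    invSet_mul_mul (a := a) (W := W) ⟨(mem_inf.1 t.2.2.1).1, t.2.2.2⟩
      ⟨(mem_inf.1 t.1.2.1).1, t.1.2.2⟩⟩ : invSet W a)) ⟨?_, ?_⟩
  · rintro ⟨⟨q, hq⟩, ⟨p, hp⟩⟩ ⟨⟨q', hq'⟩, ⟨p', hp'⟩⟩ he
    have he : p * q * p = p' * q' * p' := congrArg Subtype.val he
    have hpW := (mem_inf.1 hp.1).1
    have hp'W := (mem_inf.1 hp'.1).1
    have hqW := (mem_inf.1 hq.1).1
    have key : ∀ {p q : G}, b * p * b⁻¹ = p⁻¹ → b * q * b⁻¹ = q →
        p * p * (b * (p * q * p) * b⁻¹) * (p * p) = p * q * p := by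
      intro p q h1 h2
      rw [← conj_mul, ← conj_mul, h1, h2]
      group
    have e1 := key (hinvb hp.1 hp.2) (mem_fix.1 hq.1).2
    have e2 := key (hinvb hp'.1 hp'.2) (mem_fix.1 hq'.1).2
    rw [← he] at e2
    have hvW : b * (p * q * p) * b⁻¹ ∈ W :=
      (mem_normalizer_iff.1 hNb _).1 (mul_mem (mul_mem hpW hqW) hpW)
    have hpp : p = p' := sq_inj hW hpW hp'W
      ((mean_unique hW hvW (mul_mem hpW hpW) e1).trans (mean_unique hW hvW (mul_mem hp'W hp'W) e2).symm)
    subst hpp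
    simp [mul_left_cancel (mul_right_cancel he)]
  · rintro ⟨x, hx⟩
    have hxb : b * x * b⁻¹ ∈ invSet W a := by
      refine ⟨(mem_normalizer_iff.1 hNb x).1 hx.1, ?_⟩
      calc a * (b * x * b⁻¹) * a⁻¹ = a * b * x * (a * b)⁻¹ := by group
        _ = (b * x * b⁻¹)⁻¹ := by rw [habc, hx.2, conj_inv]
    set v := b * x * b⁻¹ with hv
    set y := mean W x v with hy
    have hyI : y ∈ invSet W a := mean_mem_invSet hx hxb
    have hyspec : y * v * y = x := mean_spec hW hx.1 hxb.1
    have hvb : b * v * b⁻¹ = x := by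
      rw [hv, hinv]
      calc b * (b * x * b) * b = (b * b) * x * (b * b) := by group
        _ = x := by rw [hb]; group
    have hyb : b * y * b⁻¹ = y⁻¹ := by
      have hm : (b * y * b⁻¹)⁻¹ = y := by
        refine mean_unique hW hxb.1 (inv_mem ((mem_normalizer_iff.1 hNb y).1 hyI.1)) ?_
        have h := congrArg (fun w => b * w * b⁻¹) hyspec
        simp only [← conj_mul, hvb] at h
        rw [← hv] at h
        rw [← h]; group
      exact inv_eq_iff_eq_inv.1 hm
    set p := root W y with hp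
    have hp2 : p * p = y := root_mul_self hW hyI.1
    have hpa : a * p * a⁻¹ = p⁻¹ := by rw [hp, root, ← conj_pow, hyI.2, inv_pow]
    have hpb : b * p * b⁻¹ = p⁻¹ := by rw [hp, root, ← conj_pow, hyb, inv_pow]
    set q := p * v * p with hq
    have hqI : q ∈ invSet W a := invSet_mul_mul ⟨root_mem hyI.1, hpa⟩ hxb
    have hqb : b * q * b⁻¹ = q := by
      rw [hq, ← conj_mul, ← conj_mul, hpb, hvb, ← hyspec, ← hp2]
      group
    have hpab : a * b * p * (a * b)⁻¹ = p := by rw [habc, hpa, ← conj_inv, hpb, inv_inv]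
    refine ⟨⟨⟨q, mem_fix.2 ⟨hqI.1, hqb⟩, hqI.2⟩, ⟨p, mem_fix.2 ⟨root_mem hyI.1, hpab⟩, hpa⟩⟩,
      Subtype.ext ?_⟩
    show p * (p * v * p) * p = x
    rw [← hyspec, ← hp2]
    group

end Cfsg.Agent.EightSeven
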