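import Mathlib

/-!
Orbit sizes of subgroups acting on a finite set, as finsets.
-/

set_option autoImplicit false

namespace Cfsg.Agent.EightSeven

open Subgroup Finset

variable {G : Type*} [Group G] {X : Type*} [MulAction G X] [Fintype X]

open Classical in
/-- The orbit of `p` under `H`. -/
noncomputable def orb (H : Subgroup G) (p : X) : Finset X := univ.filter fun q => ∃ g ∈ H, g • p = q

theorem mem_orb {H : Subgroup G} {p q : X} : q ∈ orb H p ↔ ∃ g ∈ H, g • p = q := by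
  classical simp [orb]

theorem self_mem_orb (H : Subgroup G) (p : X) : p ∈ orb H p := mem_orb.2 ⟨1, one_mem H, one_smul _ _⟩

theorem orb_eq {H : Subgroup G} {p q : X} (h : q ∈ orb H p) : orb H q = orb H p := by
  obtain ⟨g, hg, rfl⟩ := mem_orb.1 h
  ext r
  simp only [mem_orb]
  constructor
  · rintro ⟨k, hk, rfl⟩; exact ⟨k * g, mul_mem hk hg, mul_smul _ _ _⟩
  · rintro ⟨k, hk, rfl⟩
    exact ⟨k * g⁻¹, mul_mem hk (inv_mem hg), by rw [smul_smul, mul_assoc, inv_mul_cancel, mul_one]⟩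

theorem orb_mono {H K : Subgroup G} (h : H ≤ K) (p : X) : orb H p ⊆ orb K p := fun q hq => by
  obtain ⟨g, hg, e⟩ := mem_orb.1 hq
  exact mem_orb.2 ⟨g, h hg, e⟩

theorem card_orb_smul {W : Subgroup G} {g : G} (hg : g ∈ normalizer (W : Set G)) (p : X) :
    (orb W (g • p)).card = (orb W p).card := by
  classical
  rw [← card_image_of_injective (orb W p) (MulAction.injective g)]
  congr 1
  ext r
  simp only [mem_orb, mem_image]
  constructor
  · rintro ⟨w, hw, rfl⟩
    refine ⟨(g⁻¹ * w * g) • p, ⟨g⁻¹ * w * g, ?_, rfl⟩, by rw [smul_smul, smul_smul]; congr 1; group⟩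
    exact (mem_normalizer_iff''.1 hg w).1 hw
  · rintro ⟨q, ⟨w, hw, rfl⟩, rfl⟩
    exact ⟨g * w * g⁻¹, (mem_normalizer_iff.1 hg w).1 hw, by rw [smul_smul, smul_smul]; congr 1; group⟩

/-- The orbit length of a normalised subgroup divides that of the larger group. -/
theorem card_orb_dvd {W M : Subgroup G} (hWM : W ≤ M) (hM : M ≤ normalizer (W : Set G)) (p : X) :
    (orb W p).card ∣ (orb M p).card := by
  classical
  rw [card_eq_sum_card_image (fun q => orb W q) (orb M p)]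
  refine dvd_sum fun b hb => ?_
  obtain ⟨q, hq, rfl⟩ := mem_image.1 hb
  have hfib : (orb M p).filter (fun r => orb W r = orb W q) = orb W q := by
    ext r
    simp only [mem_filter]
    refine ⟨fun h => h.2 ▸ self_mem_orb W r, fun h => ⟨?_, orb_eq h⟩⟩
    exact orb_eq hq ▸ orb_mono hWM q h
  rw [hfib]
  obtain ⟨g, hg, rfl⟩ := mem_orb.1 hq
  exact dvd_of_eq (card_orb_smul (hM hg) p).symm

theorem card_orb_dvd_card [Finite G] (H : Subgroup G) (p : X) : (orb H p).card ∣ Nat.card H := by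
  classical
  have e : (orb H p).card = Nat.card (MulAction.orbit H p) := by
    rw [← Nat.card_eq_finsetCard]
    refine Nat.card_congr (Equiv.subtypeEquivRight fun q => ?_)
    rw [mem_orb]
    exact ⟨fun ⟨g, hg, e⟩ => ⟨⟨g, hg⟩, e⟩, fun ⟨⟨g, hg⟩, e⟩ => ⟨g, hg, e⟩⟩
  rw [e, Nat.card_congr (MulAction.orbitEquivQuotientStabilizer H p), ← Subgroup.index]
  exact Subgroup.index_dvd_card _

/-- A set stable under a freely acting subgroup has size divisible by the order of the subgroup. -/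
theorem card_dvd_of_free (H : Subgroup G) [Finite G] :
    ∀ (U : Finset X), (∀ g ∈ H, ∀ p ∈ U, g • p ∈ U) → (∀ g ∈ H, ∀ p ∈ U, g • p = p → g = 1) →
      Nat.card H ∣ U.card := by
  classical
  intro U
  induction U using Finset.strongInduction with
  | _ U ih =>
    intro hst hfree
    rcases U.eq_empty_or_nonempty with rfl | ⟨p, hp⟩
    · simp
    · have hsub : orb H p ⊆ U := fun q hq => by
        obtain ⟨g, hg, rfl⟩ := mem_orb.1 hq; exact hst g hg p hp
      have hcard : (orb H p).card = Nat.card H := by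
        rw [← Nat.card_eq_finsetCard]
        symm
        refine Nat.card_eq_of_bijective (fun g => ⟨(g : G) • p, mem_orb.2 ⟨g, g.2, rfl⟩⟩) ⟨?_, ?_⟩
        · intro g k e
          have e' : (g : G) • p = (k : G) • p := congrArg Subtype.val e
          have := hfree ((k : G)⁻¹ * g) (mul_mem (inv_mem k.2) g.2) p hp
            (by rw [mul_smul, e', inv_smul_smul])
          exact Subtype.ext (inv_mul_eq_one.1 this).symm
        · rintro ⟨q, hq⟩
          obtain ⟨g, hg, rfl⟩ := mem_orb.1 hq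
          exact ⟨⟨g, hg⟩, rfl⟩
      have hlt : U \ orb H p ⊂ U := sdiff_ssubset hsub ⟨p, self_mem_orb H p⟩
      rw [← card_sdiff_add_card_eq_card hsub, hcard]
      refine dvd_add (ih _ hlt ?_ fun g hg q hq => hfree g hg q (mem_sdiff.1 hq).1) dvd_rfl
      intro g hg q hq
      refine mem_sdiff.2 ⟨hst g hg q (mem_sdiff.1 hq).1, fun h => (mem_sdiff.1 hq).2 ?_⟩
      obtain ⟨k, hk, e⟩ := mem_orb.1 h
      exact mem_orb.2 ⟨g⁻¹ * k, mul_mem (inv_mem hg) hk, by rw [mul_smul, e, inv_smul_smul]⟩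

/-- If the orbit of an element of odd order has at most three points, its cube fixes the point. -/
theorem pow_smul_eq_self {H : Subgroup G} {x : G} (hx : x ∈ H) (hodd : Odd (orderOf x)) (p : X) (b : ℕ)
    (hb : (b = 3 ∧ (orb H p).card ≤ 3) ∨ (b = 15 ∧ (orb H p).card ≤ 5)) : x ^ b • p = p := by
  classical
  obtain ⟨n, hn, hcard, hb'⟩ : ∃ n, n ≤ 5 ∧ (orb H p).card ≤ n ∧ ((b = 3 ∧ n = 3) ∨ (b = 15 ∧ n = 5)) := by
    rcases hb with ⟨rfl, h⟩ | ⟨rfl, h⟩
    · exact ⟨3, by norm_num, h, Or.inl ⟨rfl, rfl⟩⟩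
    · exact ⟨5, le_rfl, h, Or.inr ⟨rfl, rfl⟩⟩
  obtain ⟨i, hi, j, hj, hne, e⟩ := exists_ne_map_eq_of_card_lt_of_maps_to
    (s := range (n + 1)) (t := orb H p) (f := fun i => x ^ i • p) (by rw [card_range]; omega)
    (fun i _ => mem_orb.2 ⟨x ^ i, pow_mem hx i, rfl⟩)
  simp only [mem_range] at hi hj
  have hex : ∃ d, 1 ≤ d ∧ d ≤ n ∧ x ^ d • p = p := by
    rcases lt_or_gt_of_ne hne with h | h
    · refine ⟨j - i, by omega, by omega, MulAction.injective (x ^ i) ?_⟩
      show x ^ i • x ^ (j - i) • p = x ^ i • p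
      rw [smul_smul, ← pow_add, Nat.add_sub_cancel' h.le, ← e]
    · refine ⟨i - j, by omega, by omega, MulAction.injective (x ^ j) ?_⟩
      show x ^ j • x ^ (i - j) • p = x ^ j • p
      rw [smul_smul, ← pow_add, Nat.add_sub_cancel' h.le, e]
  obtain ⟨d, hd1, hd2, hdp⟩ := hex
  let St := MulAction.stabilizer G p
  have hdm : x ^ d ∈ St := hdp
  have htwo : ∀ m : ℕ, x ^ (2 * m) ∈ St → x ^ m ∈ St := by
    intro m hm
    obtain ⟨r, hr⟩ := hodd
    have e2 : (x ^ (2 * m)) ^ (r + 1) = x ^ m := by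
      rw [← pow_mul, show 2 * m * (r + 1) = orderOf x * m + m by rw [hr]; ring, pow_add, pow_mul,
        pow_orderOf_eq_one, one_pow, one_mul]
    exact e2 ▸ pow_mem hm _
  show x ^ b ∈ St
  have h1 : ∀ k m, x ^ k ∈ St → k ∣ m → x ^ m ∈ St := fun k m hk ⟨c, hc⟩ => by
    rw [hc, pow_mul]; exact pow_mem hk c
  rcases hb' with ⟨rfl, rfl⟩ | ⟨rfl, rfl⟩ <;> interval_cases d
  · exact h1 1 _ hdm (one_dvd _)
  · exact h1 1 _ (htwo 1 hdm) (one_dvd _)
  · exact h1 3 _ hdm (by norm_num)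
  · exact h1 1 _ hdm (one_dvd _)
  · exact h1 1 _ (htwo 1 hdm) (one_dvd _)
  · exact h1 3 _ hdm (by norm_num)
  · exact h1 1 _ (htwo 1 (htwo 2 hdm)) (one_dvd _)
  · exact h1 5 _ hdm (by norm_num)

end Cfsg.Agent.EightSeven
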