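import Cfsg.Agent.Lib.EightSeven.Block
import Cfsg.Agent.Lib.EightSeven.Orbits
import Cfsg.Agent.Lib.PSL2.AbelianInvol.Main

/-!
# No simple group with Sylow 2-subgroup `E₈`, automizer of order seven and order not divisible by nine

`bigW S = ⊥` gives abelian centralisers of involutions, hence `SL(2, 8)`.  Otherwise `N(W)` has index at most 48,
and the permutation action on its cosets leaves a 3-group (killed by transfer) or index 41 (killed by Sylow).
-/

set_option autoImplicit false
set_option linter.style.haveILetI false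

namespace Cfsg.Agent.EightSeven

open Subgroup

universe u

variable {G : Type u} [Group G] [Finite G] {S : Sylow 2 G}

/-- A number whose prime divisors are 3 and 5 is a product of powers of 3 and 5. -/
theorem exists_pow_three_five {m : ℕ} (hm : m ≠ 0) (h : ∀ q : ℕ, q.Prime → q ∣ m → q = 3 ∨ q = 5) :
    ∃ a b : ℕ, m = 3 ^ a * 5 ^ b := by
  obtain ⟨a, m', h3, rfl⟩ := Nat.exists_eq_pow_mul_and_not_dvd hm 3 (by norm_num)
  obtain ⟨b, m'', h5, rfl⟩ := Nat.exists_eq_pow_mul_and_not_dvd (right_ne_zero_of_mul hm) 5 (by norm_num)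
  refine ⟨a, b, ?_⟩
  by_cases h1 : m'' = 1
  · rw [h1, mul_one]
  obtain ⟨q, hq, hqd⟩ := Nat.exists_prime_and_dvd h1
  rcases h q hq (dvd_mul_of_dvd_right (dvd_mul_of_dvd_right hqd _) _) with rfl | rfl
  · exact absurd (dvd_mul_of_dvd_right hqd _) h3
  · exact absurd hqd h5

theorem no_sylow_fortyOne : ∀ a < 2, ∀ b < 10, ∀ d ∈ [1, 2, 5, 10],
    d ∣ 56 * (3 ^ a * 5 ^ b) → (56 * (3 ^ a * 5 ^ b) / d) % 41 ≠ 1 := by
  decide +kernel

namespace Hyp

theorem false_of_core_eq_bot (h : Hyp S) (h9 : ¬ 9 ∣ Nat.card G) (hW : bigW S = ⊥) : False := by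
  classical
  haveI := h.simple
  haveI : Fact (Nat.Prime 2) := ⟨Nat.prime_two⟩
  obtain ⟨z, hz, hz1, -, -⟩ := h.exists_third 1 1
  have hhyp : PSL2.AbInv.Hyp G := by
    intro t ht
    obtain ⟨g, hg⟩ := isConj_iff.1
      (EightSylow.isConj_involution S h.elem h.card_eight h.perfect ht (h.orderOf_eq hz hz1))
    have hCS : ∀ c, c * z = z * c → c ∈ (S : Subgroup G) := fun c hc => by
      obtain ⟨o, ho, s, hs, rfl⟩ := h.exists_decomp hz hz1 hc
      have : o = 1 := mem_bot.1 (hW ▸ h.core_le_bigW hz hz1 ho)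
      rwa [this, one_mul]
    refine ⟨⟨fun a b => Subtype.ext ?_⟩⟩
    have hin : ∀ c : centralizer ({t} : Set G), g * (c : G) * g⁻¹ ∈ (S : Subgroup G) := fun c => hCS _ (by
      rw [← hg, conj_mul, conj_mul, mem_centralizer_singleton_iff.1 c.2])
    have e := h.comm (hin a) (hin b)
    rw [conj_mul, conj_mul] at e
    exact mul_left_cancel (mul_right_cancel e)
  have hnc : ¬ IsCyclic (S : Subgroup G) := fun hc => by
    obtain ⟨x, hx⟩ := hc.exists_generator
    have h1 : orderOf x = 8 := (orderOf_eq_card_of_forall_mem_zpowers hx).trans h.card_eight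
    have h2 : orderOf x ∣ 2 := orderOf_dvd_of_pow_eq_one (Subtype.ext (h.elem.2 x x.2))
    rw [h1] at h2
    norm_num at h2
  have hnn : ¬ (S : Subgroup G).Normal := fun hn => by
    rcases hn.eq_bot_or_eq_top with e | e
    · exact hz1 (mem_bot.1 (e ▸ hz))
    · exact h.nonab ⟨⟨fun a b => h.comm (e ▸ mem_top a) (e ▸ mem_top b)⟩⟩
  obtain ⟨F, _, _, A, _, _, hF, hA, ⟨e⟩⟩ := PSL2.AbInv.exists_equiv hhyp S hnc hnn
  have hcard : Nat.card G = Fintype.card F * (Fintype.card F ^ 2 - 1) * Nat.card A := by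
    rw [Nat.card_congr e.toEquiv, Nat.card_prod, PSL2.card_SL]
  haveI := hF
  obtain ⟨k, -, hk⟩ := FiniteField.card F 2
  have hk1 : 1 ≤ (k : ℕ) := k.pos
  have hS2 : 2 ^ 3 ∣ Nat.card G := by
    rw [show (2 : ℕ) ^ 3 = Nat.card (S : Subgroup G) by rw [h.card_eight]; norm_num]
    exact card_subgroup_dvd_card _
  have hS2' : ¬ 2 ^ 4 ∣ Nat.card G := by
    intro hd
    have := S.card_eq_multiplicity
    rw [h.card_eight] at this
    have h4 := (Nat.Prime.pow_dvd_iff_le_factorization Nat.prime_two Nat.card_pos.ne').1 hd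
    have : 2 ^ 4 ≤ 8 := this ▸ Nat.pow_le_pow_right (by norm_num) h4
    norm_num at this
  have hodd : Odd ((Fintype.card F ^ 2 - 1) * Nat.card A) := by
    refine Odd.mul ?_ hA
    rw [hk]
    have : 2 ∣ (2 ^ (k : ℕ)) ^ 2 := dvd_pow (dvd_pow_self 2 k.pos.ne') two_ne_zero
    have h0 : 0 < (2 ^ (k : ℕ)) ^ 2 := by positivity
    rw [Nat.odd_iff]; omega
  rw [mul_assoc, hk] at hcard
  have hk3 : (k : ℕ) = 3 := by
    refine le_antisymm ?_ ?_
    · by_contra hlt
      exact hS2' (hcard ▸ dvd_mul_of_dvd_left (pow_dvd_pow 2 (by omega)) _)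
    · rw [← hk] at hcard
      rw [hk] at hodd
      rw [hcard, hk] at hS2
      exact Nat.pow_dvd_pow_iff_le_right (by norm_num) |>.1
        (((Nat.coprime_two_left.2 hodd).pow_left 3).dvd_of_dvd_mul_right hS2)
  rw [hk3] at hcard
  exact h9 (hcard ▸ dvd_mul_of_dvd_right (dvd_mul_of_dvd_left (by norm_num) _) _)

variable (h : Hyp S)

include h in
theorem S_le_normalizer : (S : Subgroup G) ≤ normalizer (bigW S : Set G) := fun _ hs =>
  h.mem_normalizer_bigW (le_normalizer hs)

include h in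
theorem exists_conj_mem_S {y : G} (hy : y ∈ normalizer (bigW S : Set G)) {k : ℕ} (hk : orderOf y = 2 ^ k) :
    ∃ m ∈ normalizer (bigW S : Set G), m * y * m⁻¹ ∈ (S : Subgroup G) := by
  haveI : Fact (Nat.Prime 2) := ⟨Nat.prime_two⟩
  set M := normalizer (bigW S : Set G)
  have hp : IsPGroup 2 (zpowers (⟨y, hy⟩ : M)) := IsPGroup.of_card (n := k)
    (by rw [Nat.card_zpowers, ← orderOf_coe, hk])
  obtain ⟨Q, hQ⟩ := hp.exists_le_sylow
  obtain ⟨m, hm⟩ := MulAction.exists_smul_eq M Q (S.subtype h.S_le_normalizer)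
  refine ⟨m, m.2, ?_⟩
  have h1 : m * ⟨y, hy⟩ * m⁻¹ ∈ (S.subtype h.S_le_normalizer : Subgroup M) := by
    rw [← hm, Sylow.coe_subgroup_smul, mem_pointwise_smul_iff_inv_smul_mem]
    simpa [MulAut.smul_def, mul_assoc] using hQ (mem_zpowers _)
  exact h1

include h in
theorem mem_of_fix {z g : G} (hz : z ∈ (S : Subgroup G)) (hz1 : z ≠ 1)
    (he : g⁻¹ * z * g ∈ normalizer (bigW S : Set G)) : g ∈ normalizer (bigW S : Set G) := by
  have ho : orderOf (g⁻¹ * z * g) = 2 ^ 1 := by
    rw [show g⁻¹ * z * g = MulAut.conj g⁻¹ z by simp, MulEquiv.orderOf_eq, h.orderOf_eq hz hz1, pow_one]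
  obtain ⟨m, hm, hms⟩ := h.exists_conj_mem_S he ho
  have hne : m * (g⁻¹ * z * g) * m⁻¹ ≠ 1 := fun e => by
    rw [conj_eq_one_iff] at e
    rw [e, orderOf_one] at ho
    norm_num at ho
  obtain ⟨n, hn, hnz⟩ := h.exists_conj hz hz1 hms hne
  have hc : n⁻¹ * m * g⁻¹ ∈ centralizer ({z} : Set G) := by
    rw [mem_centralizer_singleton_iff]
    calc n⁻¹ * m * g⁻¹ * z = n⁻¹ * (m * (g⁻¹ * z * g) * m⁻¹) * m * g⁻¹ := by group
      _ = z * (n⁻¹ * m * g⁻¹) := by rw [← hnz]; group
  have := mul_mem (inv_mem (h.centralizer_le_normalizer hz hz1 hc))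
    (mul_mem (inv_mem (h.mem_normalizer_bigW hn)) hm)
  simpa [mul_assoc] using this

include h in
theorem normalizer_ne_top (hW : bigW S ≠ ⊥) : normalizer (bigW S : Set G) ≠ ⊤ := by
  intro ht
  haveI := h.simple
  rcases (normalizer_eq_top_iff.1 ht).eq_bot_or_eq_top with e | e
  · exact hW e
  · have := h.bigW_spec.1
    rw [e, card_top] at this
    have h8 : 2 ∣ Nat.card G := dvd_trans (by norm_num : 2 ∣ 8) (h.card_eight ▸ card_subgroup_dvd_card _)
    exact Nat.not_even_iff_odd.2 this (even_iff_two_dvd.2 h8)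

include h in
theorem card_dvd_normalizer : 56 * Nat.card (bigW S) ∣ Nat.card (normalizer (bigW S : Set G)) := by
  haveI : Fact (Nat.Prime 2) := ⟨Nat.prime_two⟩
  haveI : Fact (Nat.Prime 7) := ⟨by norm_num⟩
  set M := normalizer (bigW S : Set G)
  set W := (bigW S).subgroupOf M
  have hcW : Nat.card W = Nat.card (bigW S) := Nat.card_congr (subgroupOfEquivOfLe le_normalizer).toEquiv
  rw [card_eq_card_quotient_mul_card_subgroup W, hcW]
  refine mul_dvd_mul_right ?_ _
  have h8 : 8 ∣ Nat.card (M ⧸ W) := by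
    have hinj : Function.Injective ((QuotientGroup.mk' W).comp (inclusion h.S_le_normalizer)) := by
      rw [injective_iff_map_eq_one]
      intro s hs
      have hs' : (s : G) ∈ bigW S := (QuotientGroup.eq_one_iff (N := W) (inclusion h.S_le_normalizer s)).1 hs
      by_contra hne
      have hd := orderOf_dvd_natCard (bigW S) hs'
      rw [h.orderOf_eq s.2 (fun e => hne (Subtype.ext e))] at hd
      exact Nat.not_even_iff_odd.2 h.bigW_spec.1 (even_iff_two_dvd.2 hd)
    have := card_dvd_of_injective _ hinj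
    rwa [show Nat.card ↥(S : Subgroup G) = 8 from h.card_eight] at this
  have h7 : 7 ∣ Nat.card (M ⧸ W) := by
    obtain ⟨⟨a, n, rfl⟩, hao⟩ := exists_prime_orderOf_dvd_card' (G := (EightSylow.nhom S).range) 7
      (by rw [EightSylow.card_range_nhom, h.seven])
    replace hao : orderOf (EightSylow.nhom S n) = 7 := (Subgroup.orderOf_coe _).trans hao
    set q : M ⧸ W := QuotientGroup.mk ⟨(n : G), h.mem_normalizer_bigW n.2⟩
    have hq : (7 : ℕ) ∣ orderOf q := by
      have hk : ((n : G) ^ orderOf q) ∈ bigW S := by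
        have e : q ^ orderOf q = 1 := pow_orderOf_eq_one q
        rw [← QuotientGroup.mk_pow, QuotientGroup.eq_one_iff] at e
        exact e
      have hcent : (EightSylow.nhom S n) ^ orderOf q = 1 := by
        rw [← map_pow, EightSylow.nhom_ker]
        refine mem_centralizer_iff.2 fun s hs => ?_
        have hS : ((n : G) ^ orderOf q) * s * ((n : G) ^ orderOf q)⁻¹ * s⁻¹ ∈ (S : Subgroup G) :=
          mul_mem ((mem_normalizer_iff.1 (pow_mem n.2 _) s).1 hs) (inv_mem hs)
        have hW' : ((n : G) ^ orderOf q) * s * ((n : G) ^ orderOf q)⁻¹ * s⁻¹ ∈ bigW S := by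
          rw [mul_assoc, mul_assoc]
          refine mul_mem hk ?_
          rw [← mul_assoc]
          exact (mem_normalizer_iff.1 (h.S_le_normalizer hs) _).1 (inv_mem hk)
        by_contra hne
        have h1 : ((n : G) ^ orderOf q) * s * ((n : G) ^ orderOf q)⁻¹ * s⁻¹ ≠ 1 := fun e => hne (by
          rw [mul_inv_eq_one, mul_inv_eq_iff_eq_mul] at e
          simpa using e.symm)
        have hd := orderOf_dvd_natCard (bigW S) hW'
        rw [h.orderOf_eq hS h1] at hd
        exact Nat.not_even_iff_odd.2 h.bigW_spec.1 (even_iff_two_dvd.2 hd)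
      rw [← hao]
      exact orderOf_dvd_of_pow_eq_one hcent
    exact hq.trans (_root_.orderOf_dvd_natCard q)
  exact (by norm_num : Nat.Coprime 8 7).mul_dvd_of_dvd_of_dvd h8 h7

include h in
/-- The index is not 41. -/
theorem false_of_index (hi : (normalizer (bigW S : Set G)).index = 41) {a b : ℕ} (ha : a < 2) (hb : b < 10)
    (hab : Nat.card (bigW S) = 3 ^ a * 5 ^ b) (hG : Nat.card G = 41 * (56 * Nat.card (bigW S)))
    (hfac : Nat.card G ∣ Nat.factorial 41)
    (hfaith : ∀ x : G, (∀ p : G ⧸ normalizer (bigW S : Set G), x • p = p) → x = 1) : False := by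
  classical
  haveI : Fact (Nat.Prime 2) := ⟨Nat.prime_two⟩
  haveI := Fintype.ofFinite G
  set X := G ⧸ normalizer (bigW S : Set G)
  haveI := Fintype.ofFinite X
  haveI : Fact (Nat.Prime 41) := ⟨by norm_num⟩
  obtain ⟨x, hx⟩ := exists_prime_orderOf_dvd_card' (G := G) 41 (hG ▸ dvd_mul_right _ _)
  have hPcard : Nat.card (zpowers x) = 41 := by rw [Nat.card_zpowers, hx]
  have hsyl : Nat.card (zpowers x) = 41 ^ (Nat.card G).factorization 41 := by
    have h1 : 1 ≤ (Nat.card G).factorization 41 := (Nat.Prime.dvd_iff_one_le_factorization (by norm_num)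
      Nat.card_pos.ne').1 (hG ▸ dvd_mul_right _ _)
    have h2 : ¬ 2 ≤ (Nat.card G).factorization 41 := fun hle2 => by
      have h3 := ((Nat.Prime.pow_dvd_iff_le_factorization (by norm_num) Nat.card_pos.ne').2 hle2).trans hfac
      revert h3
      decide +kernel
    rw [hPcard, show (Nat.card G).factorization 41 = 1 by omega, pow_one]
  set P := Sylow.ofCard (zpowers x) hsyl
  have hn := card_sylow_modEq_one 41 G
  rw [Sylow.card_eq_index_normalizer P] at hn
  set N := normalizer (zpowers x : Set G) with hN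
  have hn' : N.index % 41 = 1 := hn
  -- the centraliser of `x`
  have hmove : ∃ p : X, x • p ≠ p := by
    by_contra hno
    push Not at hno
    rw [hfaith x hno, orderOf_one] at hx
    norm_num at hx
  obtain ⟨p, hp⟩ := hmove
  have hall : ∀ q : X, ∃ i : ℕ, q = x ^ i • p := by
    intro q
    have hcardorb : (orb (zpowers x) p).card = 41 := by
      rcases (Nat.dvd_prime (by norm_num : Nat.Prime 41)).1 (hPcard ▸ card_orb_dvd_card (zpowers x) p) with e | e
      · exfalso
        obtain ⟨q', hq'⟩ := Finset.card_eq_one.1 e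
        have h1 := hq' ▸ self_mem_orb (zpowers x) p
        have h2 := hq' ▸ (mem_orb.2 ⟨x, mem_zpowers x, rfl⟩ : x • p ∈ orb (zpowers x) p)
        rw [Finset.mem_singleton] at h1 h2
        exact hp (h2.trans h1.symm)
      · exact e
    have htop : orb (zpowers x) p = Finset.univ := Finset.eq_univ_of_card _ (by
      rw [hcardorb, ← Nat.card_eq_fintype_card]; exact hi.symm)
    obtain ⟨g, hg, e⟩ := mem_orb.1 (htop ▸ Finset.mem_univ q : q ∈ orb (zpowers x) p)
    obtain ⟨i, hi'⟩ := mem_powers_iff_mem_zpowers.2 hg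
    exact ⟨i, by rw [← e, ← hi']⟩
  have hcent : centralizer (zpowers x : Set G) ≤ zpowers x := by
    intro c hc
    obtain ⟨i, hi'⟩ := hall (c • p)
    have hcx : Commute c x := (mem_centralizer_iff.1 hc x (mem_zpowers x)).symm
    have : c = x ^ i := by
      refine inv_mul_eq_one.1 (hfaith _ fun q => ?_) |>.symm
      obtain ⟨l, rfl⟩ := hall q
      rw [smul_smul, mul_assoc, (hcx.pow_right l).eq, ← mul_assoc,
        ((Commute.pow_pow_self x i l).inv_left).eq, mul_assoc, mul_smul, mul_smul (x ^ i)⁻¹, hi',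
        inv_smul_smul]
    exact this ▸ pow_mem (mem_zpowers x) i
  set f := (zpowers x).normalizerMonoidHom with hf
  have hker : Nat.card f.ker = 41 := by
    rw [hf, normalizerMonoidHom_ker, Nat.card_congr (subgroupOfEquivOfLe (Subgroup.centralizer_le_normalizer _)).toEquiv]
    refine le_antisymm (hPcard ▸ card_le_of_le hcent) (hPcard ▸ card_le_of_le fun y hy => ?_)
    obtain ⟨i, rfl⟩ := mem_zpowers_iff.1 hy
    refine mem_centralizer_iff.2 fun w hw => ?_
    obtain ⟨l, rfl⟩ := mem_zpowers_iff.1 hw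
    exact zpow_mul_comm x l i
  set d := Nat.card f.range with hd
  have hNd : Nat.card N = 41 * d := by
    rw [hd, ← index_ker, ← hker, mul_comm]
    exact (index_mul_card f.ker).symm
  have hd40 : d ∣ 40 := by
    have h1 : d ∣ Nat.card (MulAut (zpowers x)) := card_subgroup_dvd_card f.range
    haveI : IsCyclic (zpowers x) := inferInstance
    rw [IsCyclic.card_mulAut, hPcard, Nat.totient_prime (by norm_num)] at h1
    exact h1
  have hd4 : ¬ 4 ∣ d := by
    intro h4
    obtain ⟨Q, hQ⟩ := Sylow.exists_subgroup_card_pow_prime 2 (G := f.range) (n := 2) h4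
    haveI : Fintype Q := Fintype.ofFinite Q
    have hval : ∀ q : Q, ((q : f.range) : MulAut (zpowers x)) ⟨x, mem_zpowers x⟩ = ⟨x, mem_zpowers x⟩ ∨
        ((q : f.range) : MulAut (zpowers x)) ⟨x, mem_zpowers x⟩ = (⟨x, mem_zpowers x⟩)⁻¹ := by
      intro q
      set α := ((q : f.range) : MulAut (zpowers x)) with hα
      obtain ⟨n, hn⟩ := (q : f.range).2
      have hq2 : α ^ 2 = 1 := by
        obtain ⟨k2, m, hm, hord⟩ : ∃ k m, Odd m ∧ orderOf n = 2 ^ k * m := by
          obtain ⟨k, m, hm, e⟩ := Nat.exists_eq_pow_mul_and_not_dvd (orderOf_pos n).ne' 2 (by norm_num)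
          exact ⟨k, m, Nat.odd_iff.2 (Nat.two_dvd_ne_zero.1 hm), e⟩
        have hy : IsPGroup 2 (zpowers ((n : G) ^ m)) := by
          refine IsPGroup.of_card (n := k2) ?_
          rw [Nat.card_zpowers, orderOf_pow_of_dvd hm.pos.ne' (by rw [orderOf_coe, hord]; exact dvd_mul_left _ _),
            orderOf_coe, hord, Nat.mul_div_cancel _ hm.pos]
        obtain ⟨Q', hQ'⟩ := hy.exists_le_sylow
        obtain ⟨g, hg⟩ := MulAction.exists_smul_eq G Q' S
        have hmem : g * (n : G) ^ m * g⁻¹ ∈ (S : Subgroup G) := by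
          rw [← hg, Sylow.coe_subgroup_smul, mem_pointwise_smul_iff_inv_smul_mem]
          have h9 := hQ' (mem_zpowers ((n : G) ^ m))
          show (MulAut.conj g)⁻¹ (g * (n : G) ^ m * g⁻¹) ∈ (Q' : Subgroup G)
          rw [MulAut.conj_inv_apply, show g⁻¹ * (g * (n : G) ^ m * g⁻¹) * g = (n : G) ^ m by group]
          exact h9
        have hsq : ((n : G) ^ m) ^ 2 = 1 := by
          have := h.elem.2 _ hmem
          rwa [conj_pow, conj_eq_one_iff] at this
        have h1 : α ^ (m * 2) = 1 := by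
          rw [hα, ← hn, ← map_pow, ← map_one f]
          congr 1
          exact Subtype.ext (by rw [pow_mul]; exact hsq)
        have h2 : α ^ 4 = 1 := by
          have := pow_card_eq_one' (x := q)
          rw [hQ] at this
          exact congrArg (fun t : Q => ((t : f.range) : MulAut (zpowers x))) this
        have h3 := pow_gcd_eq_one.2 ⟨h1, h2⟩
        rwa [show Nat.gcd (m * 2) 4 = 2 by
          rw [show (4 : ℕ) = 2 * 2 from rfl, Nat.gcd_mul_right, (Nat.coprime_two_right.2 hm).gcd_eq_one]] at h3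
      obtain ⟨i, hi'⟩ := mem_zpowers_iff.1 (α ⟨x, mem_zpowers x⟩).2
      have hi2 : α ⟨x, mem_zpowers x⟩ = (⟨x, mem_zpowers x⟩ : zpowers x) ^ i := Subtype.ext (by simpa using hi'.symm)
      have e2 : α (α ⟨x, mem_zpowers x⟩) = ⟨x, mem_zpowers x⟩ := by
        rw [← MulAut.mul_apply, ← pow_two, hq2]; rfl
      rw [hi2, map_zpow, hi2, ← zpow_mul] at e2
      have e3 : x ^ (i * i - 1) = 1 := by
        rw [zpow_sub, zpow_one, mul_inv_eq_one]
        exact congrArg Subtype.val e2
      rw [← orderOf_dvd_iff_zpow_eq_one, hx] at e3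
      rw [show i * i - 1 = (i - 1) * (i + 1) by ring] at e3
      rcases (Nat.prime_iff_prime_int.1 (by norm_num : Nat.Prime 41)).dvd_or_dvd e3 with e4 | e4
      · left
        have hz0 : x ^ (i - 1) = 1 := orderOf_dvd_iff_zpow_eq_one.1 (by rw [hx]; exact e4)
        rw [hi2]
        exact Subtype.ext (by rwa [zpow_sub, zpow_one, mul_inv_eq_one] at hz0)
      · right
        have hz0 : x ^ (i + 1) = 1 := orderOf_dvd_iff_zpow_eq_one.1 (by rw [hx]; exact e4)
        rw [hi2]
        exact Subtype.ext (eq_inv_of_mul_eq_one_left (by rwa [zpow_add, zpow_one] at hz0))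
    have hinj : Function.Injective fun q : Q => ((q : f.range) : MulAut (zpowers x)) ⟨x, mem_zpowers x⟩ := by
      intro q r e
      refine Subtype.ext (Subtype.ext (MulEquiv.ext fun y => ?_))
      obtain ⟨y, hy⟩ := y
      obtain ⟨l, rfl⟩ := mem_zpowers_iff.1 hy
      rw [show (⟨x ^ l, hy⟩ : zpowers x) = ⟨x, mem_zpowers x⟩ ^ l from Subtype.ext (by simp), map_zpow,
        map_zpow]
      exact congrArg (· ^ l) e
    have hle2 := Finset.card_le_card_of_injOn (s := (Finset.univ : Finset Q))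
      (t := {⟨x, mem_zpowers x⟩, (⟨x, mem_zpowers x⟩ : zpowers x)⁻¹}) _
      (fun q _ => by rcases hval q with e | e <;> simp [e]) hinj.injOn
    rw [Finset.card_univ, ← Nat.card_eq_fintype_card, hQ] at hle2
    exact absurd (hle2.trans Finset.card_le_two) (by norm_num)
  have hdl : d ∈ [1, 2, 5, 10] := by
    have key : ∀ d < 41, d ∣ 40 → ¬ 4 ∣ d → d ∈ [1, 2, 5, 10] := by decide +kernel
    exact key d (Nat.lt_succ_of_le (Nat.le_of_dvd (by norm_num) hd40)) hd40 hd4
  have hnd : N.index * d = 56 * (3 ^ a * 5 ^ b) := by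
    have := N.index_mul_card
    rw [hNd, hG, hab] at this
    refine Nat.eq_of_mul_eq_mul_left (show 0 < 41 by norm_num) ?_
    rw [← this]; ring
  have hdpos : 0 < d := Nat.card_pos
  refine no_sylow_fortyOne a ha b hb d hdl ⟨N.index, by rw [← hnd, mul_comm]⟩ ?_
  rw [← hnd, Nat.mul_div_cancel _ hdpos]
  exact hn'

include h in
/-- The completion is not of order three. -/
theorem false_of_card_three (ha : Nat.card (bigW S) = 3)
    (hsylW : Nat.card (bigW S) = 3 ^ (Nat.card G).factorization 3) : False := by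
  classical
  haveI := h.simple
  haveI : Fact (Nat.Prime 2) := ⟨Nat.prime_two⟩
  haveI : Fact (Nat.Prime 3) := ⟨Nat.prime_three⟩
  set M := normalizer (bigW S : Set G)
  set W := bigW S
  obtain ⟨⟨w, hwW⟩, hw⟩ := exists_prime_orderOf_dvd_card' (G := W) 3 (ha ▸ dvd_rfl)
  rw [orderOf_mk] at hw
  have hgen : ∀ v ∈ W, v = 1 ∨ v = w ∨ v = w⁻¹ := by
    intro v hv
    have hz : zpowers w = W := eq_of_le_of_card_ge (zpowers_le.2 hwW) (by rw [Nat.card_zpowers, hw, ha])
    rw [← hz] at hv
    obtain ⟨i, rfl⟩ := mem_powers_iff_mem_zpowers.2 hv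
    simp only
    rw [← pow_mod_orderOf, hw]
    have : i % 3 < 3 := Nat.mod_lt _ (by norm_num)
    interval_cases hi : i % 3
    · exact Or.inl (pow_zero w)
    · exact Or.inr (Or.inl (pow_one w))
    · exact Or.inr (Or.inr (eq_inv_of_mul_eq_one_left (by
          have h3 := pow_orderOf_eq_one w
          rw [hw] at h3
          rw [← pow_succ]; exact h3)))
  have hact : ∀ m ∈ M, m * w * m⁻¹ = w ∨ m * w * m⁻¹ = w⁻¹ := fun m hm =>
    (hgen _ ((mem_normalizer_iff.1 hm w).1 hwW)).resolve_left fun e => by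
      rw [conj_eq_one_iff] at e; rw [e, orderOf_one] at hw; norm_num at hw
  obtain ⟨s₁, hs₁, hs₁1, -, -⟩ := h.exists_third 1 1
  obtain ⟨s₂, hs₂, hs₂1, hne12, -⟩ := h.exists_third s₁ s₁
  have hex : ∃ s ∈ (S : Subgroup G), s ≠ 1 ∧ s * w * s⁻¹ = w := by
    rcases hact s₁ (h.S_le_normalizer hs₁) with e | e
    · exact ⟨s₁, hs₁, hs₁1, e⟩
    rcases hact s₂ (h.S_le_normalizer hs₂) with e' | e'
    · exact ⟨s₂, hs₂, hs₂1, e'⟩
    refine ⟨s₁ * s₂, mul_mem hs₁ hs₂, fun h1 => hne12 ?_, ?_⟩
    · rw [eq_inv_of_mul_eq_one_left h1, h.inv_eq hs₂]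
    · calc s₁ * s₂ * w * (s₁ * s₂)⁻¹ = s₁ * (s₂ * w * s₂⁻¹) * s₁⁻¹ := by group
        _ = (s₁ * w * s₁⁻¹)⁻¹ := by rw [e', conj_inv]
        _ = w := by rw [e, inv_inv]
  obtain ⟨s₀, hs₀, hs₀1, hs₀w⟩ := hex
  have hcomm : ∀ s ∈ (S : Subgroup G), s * w * s⁻¹ = w := by
    intro s hs
    by_cases hs1 : s = 1
    · simp [hs1]
    obtain ⟨n, hn, rfl⟩ := h.exists_conj hs₀ hs₀1 hs hs1
    have hnM := h.mem_normalizer_bigW hn
    have hu : n⁻¹ * w * n⁻¹⁻¹ ∈ W := (mem_normalizer_iff.1 (inv_mem hnM) w).1 hwW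
    have hfixu : s₀ * (n⁻¹ * w * n⁻¹⁻¹) * s₀⁻¹ = n⁻¹ * w * n⁻¹⁻¹ := by
      rcases hgen _ hu with e | e | e <;> rw [e]
      · group
      · exact hs₀w
      · rw [← conj_inv, hs₀w]
    calc n * s₀ * n⁻¹ * w * (n * s₀ * n⁻¹)⁻¹ = n * (s₀ * (n⁻¹ * w * n⁻¹⁻¹) * s₀⁻¹) * n⁻¹ := by group
      _ = w := by rw [hfixu]; group
  have hcent : M ≤ centralizer (W : Set G) := by
    intro m hm
    have hmw : m * w * m⁻¹ = w := by
      refine (hact m hm).resolve_right fun e => ?_
      obtain ⟨k, b, hb, hord⟩ : ∃ k b, Odd b ∧ orderOf m = 2 ^ k * b := by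
        obtain ⟨k, b, hb, e⟩ := Nat.exists_eq_pow_mul_and_not_dvd (orderOf_pos m).ne' 2 (by norm_num)
        exact ⟨k, b, Nat.odd_iff.2 (Nat.two_dvd_ne_zero.1 hb), e⟩
      have ho : orderOf (m ^ b) = 2 ^ k := by
        rw [orderOf_pow_of_dvd hb.pos.ne' (hord ▸ dvd_mul_left _ _), hord, Nat.mul_div_cancel _ hb.pos]
      obtain ⟨c, hc, hcs⟩ := h.exists_conj_mem_S (pow_mem hm b) ho
      have hpow : ∀ i : ℕ, m ^ i * w * (m ^ i)⁻¹ = if Even i then w else w⁻¹ := by
        intro i
        induction i with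
        | zero => simp
        | succ i ih =>
          rw [show m ^ (i + 1) * w * (m ^ (i + 1))⁻¹ = m * (m ^ i * w * (m ^ i)⁻¹) * m⁻¹ by
            rw [pow_succ']; group, ih]
          by_cases hi : Even i
          · rw [if_pos hi, if_neg (by simp [Nat.even_add_one, hi]), e]
          · rw [if_neg hi, if_pos (by simp [Nat.even_add_one, hi]), ← conj_inv, e, inv_inv]
      have h1 := hpow b
      rw [if_neg (Nat.not_even_iff_odd.2 hb)] at h1
      have hu : c * w * c⁻¹ ∈ W := (mem_normalizer_iff.1 hc w).1 hwW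
      have h2 : (c * m ^ b * c⁻¹) * (c * w * c⁻¹) * (c * m ^ b * c⁻¹)⁻¹ = c * w * c⁻¹ := by
        rcases hgen _ hu with e' | e' | e' <;> rw [e']
        · group
        · exact hcomm _ hcs
        · rw [← conj_inv, hcomm _ hcs]
      have h3 : m ^ b * w * (m ^ b)⁻¹ = w := by
        calc m ^ b * w * (m ^ b)⁻¹
            = c⁻¹ * ((c * m ^ b * c⁻¹) * (c * w * c⁻¹) * (c * m ^ b * c⁻¹)⁻¹) * c := by group
          _ = w := by rw [h2]; group
      rw [h1] at h3
      have h4 : orderOf w ∣ 2 := orderOf_dvd_of_pow_eq_one (by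
        rw [pow_two]; nth_rw 1 [← h3]; exact inv_mul_cancel w)
      rw [hw] at h4
      norm_num at h4
    refine mem_centralizer_iff.2 fun v hv => ?_
    have hc : Commute m w := mul_inv_eq_iff_eq_mul.1 hmw
    rcases hgen v hv with rfl | rfl | rfl
    · simp
    · exact hc.symm.eq
    · exact hc.inv_right.symm.eq
  set Q := Sylow.ofCard W hsylW
  have hQ : normalizer ((Q : Subgroup G) : Set G) ≤ centralizer ((Q : Subgroup G) : Set G) := hcent
  have hcompl := MonoidHom.ker_transferSylow_isComplement' Q hQ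
  have hcard := hcompl.card_mul
  rw [show Nat.card (Q : Subgroup G) = Nat.card W from rfl, ha] at hcard
  rcases ((MonoidHom.transferSylow Q hQ).normal_ker).eq_bot_or_eq_top with e | e
  · rw [e, card_bot, one_mul] at hcard
    obtain ⟨s, hs, hs1, -, -⟩ := h.exists_third 1 1
    have := orderOf_dvd_natCard s
    rw [h.orderOf_eq hs hs1, ← hcard] at this
    norm_num at this
  · rw [e, card_top] at hcard
    have : 0 < Nat.card G := Nat.card_pos
    omega


include h in
/-- The completion is trivial. -/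
theorem bigW_eq_bot (h9 : ¬ 9 ∣ Nat.card G) : bigW S = ⊥ := by
  classical
  by_contra hW
  haveI := h.simple
  haveI : Fact (Nat.Prime 2) := ⟨Nat.prime_two⟩
  haveI := Fintype.ofFinite G
  set M := normalizer (bigW S : Set G) with hMdef
  set W := bigW S with hWdef
  have hMtop := h.normalizer_ne_top hW
  set X := G ⧸ M
  haveI := Fintype.ofFinite X
  set o : X := QuotientGroup.mk 1 with ho
  have hfix : ∀ z ∈ (S : Subgroup G), ∀ p : X, z • p = p → p ≠ o → z = 1 := by
    intro z hz p e hp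
    induction p using QuotientGroup.induction_on with
    | _ g =>
      by_contra hz1
      refine hp ?_
      rw [ho, QuotientGroup.eq, mul_one]
      refine inv_mem (h.mem_of_fix hz hz1 ?_)
      rw [MulAction.Quotient.smul_mk, smul_eq_mul, QuotientGroup.eq] at e
      have := inv_mem e
      simpa [mul_assoc] using this
  have hMo : ∀ m ∈ M, m • o = o := fun m hm => by
    rw [ho, MulAction.Quotient.smul_mk, QuotientGroup.eq]; simpa using inv_mem hm
  -- orbit lengths
  have horb : ∀ p : X, p ≠ o → 8 ∣ (orb M p).card ∧ orb M p ⊆ Finset.univ.erase o := by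
    intro p hp
    have hne : ∀ q ∈ orb M p, q ≠ o := fun q hq hqo => by
      obtain ⟨m, hm, rfl⟩ := mem_orb.1 hq
      exact hp (MulAction.injective m (hqo.trans (hMo m hm).symm))
    refine ⟨h.card_eight ▸ card_dvd_of_free _ _ (fun s hs q hq => ?_)
      fun s hs q hq e => hfix s hs q e (hne q hq), fun q hq => Finset.mem_erase.2 ⟨hne q hq, Finset.mem_univ _⟩⟩
    obtain ⟨m, hm, rfl⟩ := mem_orb.1 hq
    exact mem_orb.2 ⟨s * m, mul_mem (h.S_le_normalizer hs) hm, mul_smul _ _ _⟩
  have hU : 8 ∣ (Finset.univ.erase o).card := by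
    refine h.card_eight ▸ card_dvd_of_free _ _ (fun s hs q hq => ?_)
      fun s hs q hq e => hfix s hs q e (Finset.mem_erase.1 hq).1
    refine Finset.mem_erase.2 ⟨fun e => (Finset.mem_erase.1 hq).1 ?_, Finset.mem_univ _⟩
    exact MulAction.injective s (e.trans (hMo s (h.S_le_normalizer hs)).symm)
  have hk : (Finset.univ.erase o).card + 1 = M.index := by
    rw [Finset.card_erase_add_one (Finset.mem_univ o), Finset.card_univ, ← Nat.card_eq_fintype_card]
    rfl
  obtain ⟨j, hj⟩ := h.card_dvd_normalizer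
  rw [← hMdef, ← hWdef] at hj
  have hle := h.card_le
  rw [← M.index_mul_card, hj, ← hWdef] at hle
  have hWpos : 0 < Nat.card W := Nat.card_pos
  have hjk : M.index * (56 * j) ≤ 2688 := Nat.le_of_mul_le_mul_right
    (show M.index * (56 * j) * Nat.card W ≤ 2688 * Nat.card W by linarith) hWpos
  have hjpos : 0 < j := Nat.pos_of_ne_zero fun e => by
    rw [e, mul_zero] at hj; exact absurd hj Nat.card_pos.ne'
  have hindex : M.index * 56 ≤ 2688 := le_trans (Nat.mul_le_mul_left _ (Nat.le_mul_of_pos_right 56 hjpos)) hjk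
  have hWorb : ∀ p : X, (orb W p).card ≤ 3 ∨ ((orb W p).card ≤ 5 ∧ M.index = 41) := by
    intro p
    by_cases hp : p = o
    · left
      have : orb W p = {o} := Finset.eq_singleton_iff_unique_mem.2 ⟨hp ▸ self_mem_orb W p, fun q hq => by
        obtain ⟨w, hw, rfl⟩ := mem_orb.1 hq
        rw [hp]; exact hMo w (le_normalizer hw)⟩
      simp [this]
    · obtain ⟨h8, hsub⟩ := horb p hp
      have hle' := Finset.card_le_card hsub
      have hdvd := card_orb_dvd (X := X) (le_normalizer : W ≤ M) le_rfl p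
      have hodd := h.bigW_spec.1.of_dvd_nat (card_orb_dvd_card W p)
      have hpos : 0 < (orb M p).card := Finset.card_pos.2 ⟨p, self_mem_orb M p⟩
      obtain ⟨c, hc⟩ := h8
      obtain ⟨u, hu⟩ := hU
      have hu5 : u ≤ 5 := by omega
      have hc5 : c ≤ u := by omega
      rw [hc] at hdvd
      have hdc : (orb W p).card ∣ c := by
        refine (Nat.Coprime.dvd_of_dvd_mul_left ?_ hdvd)
        exact Nat.Coprime.pow_right 3 (Nat.coprime_two_right.2 hodd)
      have hlc := Nat.le_of_dvd (by omega) hdc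
      rcases Nat.lt_or_ge c 5 with hc4 | hc4
      · left
        obtain ⟨r, hr⟩ := hodd
        omega
      · right
        exact ⟨by omega, by omega⟩
  have hfaith : ∀ x : G, (∀ p : X, x • p = p) → x = 1 := by
    intro x hx
    have hcore : x ∈ M.normalCore := by
      rw [normalCore_eq_ker, MonoidHom.mem_ker]
      exact Equiv.ext hx
    rcases (inferInstance : M.normalCore.Normal).eq_bot_or_eq_top with e | e
    · rwa [e, mem_bot] at hcore
    · exact absurd (top_le_iff.1 (e ▸ M.normalCore_le)) hMtop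
  have hWodd : ∀ x ∈ W, Odd (orderOf x) := fun x hx => h.bigW_spec.1.of_dvd_nat (orderOf_dvd_natCard W hx)
  have hWdvd : Nat.card W ∣ Nat.card G := card_subgroup_dvd_card W
  by_cases h5 : ∃ p : X, 3 < (orb W p).card
  · -- index 41
    obtain ⟨p, hp⟩ := h5
    have hi : M.index = 41 := ((hWorb p).resolve_left (by omega)).2
    have hj1 : j = 1 := by rw [hi] at hjk; omega
    have hW15 : ∀ q : ℕ, q.Prime → q ∣ Nat.card W → q = 3 ∨ q = 5 := by
      intro q hq hqd
      haveI := Fact.mk hq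
      obtain ⟨⟨x, hx⟩, hxo⟩ := exists_prime_orderOf_dvd_card' (G := W) q hqd
      rw [orderOf_mk] at hxo
      have : x ^ 15 = 1 := hfaith _ fun r => pow_smul_eq_self hx (hWodd x hx) r 15
        (Or.inr ⟨rfl, by rcases hWorb r with e | e <;> omega⟩)
      have hd := orderOf_dvd_of_pow_eq_one this
      rw [hxo] at hd
      rcases hq.dvd_mul.1 (show q ∣ 3 * 5 from hd) with e | e
      · exact Or.inl ((Nat.prime_dvd_prime_iff_eq hq Nat.prime_three).1 e)
      · exact Or.inr ((Nat.prime_dvd_prime_iff_eq hq (by norm_num)).1 e)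
    obtain ⟨a, b, hab⟩ := exists_pow_three_five hWpos.ne' hW15
    have ha : a < 2 := by
      by_contra hlt
      exact h9 ((dvd_trans (pow_dvd_pow 3 (by omega : 2 ≤ a)) (hab ▸ dvd_mul_right _ _)).trans hWdvd)
    have hG : Nat.card G = 41 * (56 * Nat.card W) := by
      rw [← M.index_mul_card, hj, hi, hj1, mul_one]
    have hfac : Nat.card G ∣ Nat.factorial 41 := by
      have := card_dvd_of_injective (MulAction.toPermHom G X) ((injective_iff_map_eq_one _).2 fun x hx =>
        hfaith x fun p => Equiv.ext_iff.1 hx p)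
      rw [Nat.card_perm, show Nat.card X = 41 from hi] at this
      exact this
    have hb : b < 10 := by
      by_contra hlt
      have h5 : 5 ^ 10 ∣ Nat.factorial 41 :=
        ((pow_dvd_pow 5 (by omega : 10 ≤ b)).trans (hab ▸ dvd_mul_left _ _)).trans (hWdvd.trans hfac)
      revert h5
      decide +kernel
    exact h.false_of_index hi ha hb hab hG hfac hfaith
  · -- a group of exponent three
    push Not at h5
    haveI : Fact (Nat.Prime 3) := ⟨Nat.prime_three⟩
    have hexp : ∀ x ∈ W, x ^ 3 = 1 := fun x hx =>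
      hfaith _ fun p => pow_smul_eq_self hx (hWodd x hx) p 3 (Or.inl ⟨rfl, h5 p⟩)
    have hW3 : IsPGroup 3 W := fun w => ⟨1, Subtype.ext (by simpa using hexp w w.2)⟩
    obtain ⟨a, ha⟩ := hW3.exists_card_eq
    have ha1 : a = 1 := by
      have h0 : a ≠ 0 := fun e => hW (card_eq_one.1 (by rw [ha, e, pow_zero]))
      by_contra hne
      exact h9 ((dvd_trans (pow_dvd_pow 3 (by omega : 2 ≤ a)) (ha ▸ dvd_rfl)).trans hWdvd)
    rw [ha1, pow_one] at ha
    have hsylW : Nat.card W = 3 ^ (Nat.card G).factorization 3 := by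
      have h1 : 1 ≤ (Nat.card G).factorization 3 :=
        (Nat.Prime.dvd_iff_one_le_factorization Nat.prime_three Nat.card_pos.ne').1 (ha ▸ hWdvd)
      have h2 : ¬ 2 ≤ (Nat.card G).factorization 3 := fun hle2 =>
        h9 ((Nat.Prime.pow_dvd_iff_le_factorization Nat.prime_three Nat.card_pos.ne').2 hle2)
      rw [ha, show (Nat.card G).factorization 3 = 1 by omega, pow_one]
    exact h.false_of_card_three ha hsylW

end Hyp

/-- No simple group with Sylow 2-subgroup `E₈` and automizer of order seven has order prime to nine. -/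
theorem false_of_not_nine (h : Hyp S) (h9 : ¬ 9 ∣ Nat.card G) : False :=
  h.false_of_core_eq_bot h9 (h.bigW_eq_bot h9)

end Cfsg.Agent.EightSeven
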