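import Cfsg.Agent.Lib.EightSylow.Fusion
import Cfsg.Agent.Lib.EightSeven.Involution
import Cfsg.Agent.Lib.PCore.Basic
import Cfsg.Agent.S0217
import Cfsg.Agent.S0205

/-!
# Simple groups with Sylow 2-subgroup `E₈` and automizer of order seven: local structure

Centralisers of involutions are 2-nilpotent, their odd cores form a signalizer functor with completion `W`, and
`N(W)` contains every `C(z)`, `z ∈ S#`, and `N(S)`.
-/

set_option autoImplicit false
set_option linter.style.haveILetI false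

namespace Cfsg.Agent.EightSeven

open Subgroup

universe u

variable {G : Type u} [Group G] [Finite G] {S : Sylow 2 G}

/-- A simple group with Sylow 2-subgroup `E₈` whose automizer has order seven. -/
structure Hyp (S : Sylow 2 G) : Prop where
  simple : IsSimpleGroup G
  nonab : ¬ IsMulCommutative G
  elem : Cfsg.IsElementaryAbelian 2 (S : Subgroup G)
  card_eight : Nat.card (S : Subgroup G) = 8
  seven : (centralizer ((S : Subgroup G) : Set G)).relIndex (normalizer ((S : Subgroup G) : Set G)) = 7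

/-- The odd core of the centraliser. -/
abbrev core (z : G) : Subgroup G := centralizerPPrimeCore 2 z

/-- The subgroup generated by the odd cores of the centralisers of the involutions of `S`. -/
noncomputable def bigW (S : Sylow 2 G) : Subgroup G :=
  ⨆ a : {a : G // a ∈ (S : Subgroup G) ∧ a ≠ 1}, core a.1

namespace Hyp

theorem perfect (h : Hyp S) : _root_.commutator G = ⊤ :=
  haveI := h.simple
  EightSylow.commutator_eq_top h.nonab

theorem sq (h : Hyp S) {s : G} (hs : s ∈ (S : Subgroup G)) : s * s = 1 := by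
  rw [← pow_two]; exact h.elem.2 s hs

theorem inv_eq (h : Hyp S) {s : G} (hs : s ∈ (S : Subgroup G)) : s⁻¹ = s :=
  inv_eq_of_mul_eq_one_right (h.sq hs)

theorem comm (h : Hyp S) {s t : G} (hs : s ∈ (S : Subgroup G)) (ht : t ∈ (S : Subgroup G)) : s * t = t * s :=
  congrArg Subtype.val (h.elem.1.is_comm.comm (⟨s, hs⟩ : (S : Subgroup G)) ⟨t, ht⟩)

theorem orderOf_eq (h : Hyp S) {s : G} (hs : s ∈ (S : Subgroup G)) (h1 : s ≠ 1) : orderOf s = 2 :=
  orderOf_eq_prime (h.elem.2 s hs) h1

theorem le_centralizer_S (h : Hyp S) {s : G} (hs : s ∈ (S : Subgroup G)) :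
    (S : Subgroup G) ≤ centralizer ({s} : Set G) := fun t ht =>
  mem_centralizer_singleton_iff.2 (h.comm ht hs)

theorem exists_conj (h : Hyp S) {s u : G} (hs : s ∈ (S : Subgroup G)) (hs1 : s ≠ 1)
    (hu : u ∈ (S : Subgroup G)) (hu1 : u ≠ 1) :
    ∃ n ∈ normalizer ((S : Subgroup G) : Set G), n * s * n⁻¹ = u := by
  obtain ⟨n, hn⟩ := EightSylow.transitive S h.elem h.card_eight h.perfect
    (s := ⟨s, hs⟩) (u := ⟨u, hu⟩) (fun e => hs1 (congrArg Subtype.val e)) (fun e => hu1 (congrArg Subtype.val e))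
  exact ⟨n, n.2, congrArg Subtype.val hn⟩

omit [Finite G] in
theorem exists_third (h : Hyp S) (a b : G) : ∃ u ∈ (S : Subgroup G), u ≠ 1 ∧ u ≠ a ∧ u ≠ b := by
  classical
  haveI : Finite (S : Subgroup G) := Nat.finite_of_card_ne_zero (by rw [h.card_eight]; norm_num)
  haveI := Fintype.ofFinite (S : Subgroup G)
  by_contra hc
  push Not at hc
  have hsub : (Finset.univ : Finset (S : Subgroup G)).image Subtype.val ⊆ {1, a, b} := by
    intro x hx
    obtain ⟨y, -, rfl⟩ := Finset.mem_image.1 hx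
    by_cases h1 : (y : G) = 1
    · simp [h1]
    · by_cases h2 : (y : G) = a
      · simp [h2]
      · simp [hc y y.2 h1 h2]
  have := (Finset.card_le_card hsub).trans Finset.card_le_three
  rw [Finset.card_image_of_injective _ Subtype.val_injective, Finset.card_univ, ← Nat.card_eq_fintype_card,
    h.card_eight] at this
  omega

/-- An element of `N(S)` commuting with an involution of `S` centralises `S`. -/
theorem mem_centralizer_of_commute (h : Hyp S) {n z : G} (hn : n ∈ normalizer ((S : Subgroup G) : Set G))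
    (hz : z ∈ (S : Subgroup G)) (hz1 : z ≠ 1) (hc : n * z = z * n) :
    n ∈ centralizer ((S : Subgroup G) : Set G) := by
  haveI : Fact (Nat.Prime 7) := ⟨by norm_num⟩
  set a := EightSylow.nhom S ⟨n, hn⟩ with ha
  rw [show n = ((⟨n, hn⟩ : normalizer ((S : Subgroup G) : Set G)) : G) from rfl, ← EightSylow.nhom_ker, ← ha]
  by_contra hne
  have h7 : a ^ 7 = 1 := by
    have e := pow_card_eq_one' (x := (⟨a, ⟨n, hn⟩, rfl⟩ : (EightSylow.nhom S).range))
    rw [EightSylow.card_range_nhom, h.seven] at e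
    exact congrArg Subtype.val e
  have hao : orderOf a = 7 := orderOf_eq_prime h7 hne
  have hfix : a ⟨z, hz⟩ = ⟨z, hz⟩ := Subtype.ext (by
    rw [ha, EightSylow.nhom_apply, mul_inv_eq_iff_eq_mul]; exact hc)
  obtain ⟨u, hu, hu1, huz, -⟩ := h.exists_third z z
  obtain ⟨k, hk⟩ := EightSylow.orbit_seven S h.elem h.card_eight a hao (s := ⟨z, hz⟩) (u := ⟨u, hu⟩)
    (fun e => hz1 (congrArg Subtype.val e)) (fun e => hu1 (congrArg Subtype.val e))
  have : ∀ j : ℕ, (a ^ j) ⟨z, hz⟩ = ⟨z, hz⟩ := fun j => by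
    induction j with
    | zero => rfl
    | succ j ih => rw [pow_succ, MulAut.mul_apply, hfix, ih]
  rw [this] at hk
  exact huz (congrArg Subtype.val hk).symm

theorem exists_complement (h : Hyp S) {z : G} (hz : z ∈ (S : Subgroup G)) (hz1 : z ≠ 1) :
    ∃ K : Subgroup (centralizer ({z} : Set G)), K.Normal ∧ Odd (Nat.card K) ∧
      IsComplement' K (S.subtype (h.le_centralizer_S hz) : Subgroup (centralizer ({z} : Set G))) := by
  haveI : Fact (Nat.Prime 2) := ⟨Nat.prime_two⟩
  set C := centralizer ({z} : Set G)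
  set S' := S.subtype (h.le_centralizer_S hz) with hS'
  have mem : ∀ c : C, c ∈ (S' : Subgroup C) ↔ (c : G) ∈ (S : Subgroup G) := fun c => Iff.rfl
  have hN : normalizer ((S' : Subgroup C) : Set C) ≤ centralizer ((S' : Subgroup C) : Set C) := by
    intro c hc
    have hcN : (c : G) ∈ normalizer ((S : Subgroup G) : Set G) := by
      rw [mem_normalizer_iff]
      intro g
      constructor
      · exact fun hg => ((mem_normalizer_iff.1 hc) ⟨g, h.le_centralizer_S hz hg⟩).1 hg
      · intro hg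
        have hgC : g ∈ C := by
          have := mul_mem (mul_mem (inv_mem c.2) (h.le_centralizer_S hz hg)) c.2
          simpa [mul_assoc] using this
        exact ((mem_normalizer_iff.1 hc) ⟨g, hgC⟩).2 hg
    have := h.mem_centralizer_of_commute hcN hz hz1 (mem_centralizer_singleton_iff.1 c.2)
    exact mem_centralizer_iff.2 fun d hd => Subtype.ext (mem_centralizer_iff.1 this d hd)
  refine ⟨(MonoidHom.transferSylow S' hN).ker, inferInstance, ?_, MonoidHom.ker_transferSylow_isComplement' S' hN⟩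
  exact Nat.not_even_iff_odd.1 fun he => MonoidHom.not_dvd_card_ker_transferSylow S' hN he.two_dvd

theorem mem_core_iff (h : Hyp S) {z : G} (hz : z ∈ (S : Subgroup G)) (hz1 : z ≠ 1) {x : G} :
    x ∈ core z ↔ x * z = z * x ∧ Odd (orderOf x) := by
  haveI : Fact (Nat.Prime 2) := ⟨Nat.prime_two⟩
  constructor
  · rintro ⟨c, hc, rfl⟩
    refine ⟨mem_centralizer_singleton_iff.1 c.2, ?_⟩
    rw [Subgroup.subtype_apply, orderOf_coe]
    refine Nat.not_even_iff_odd.1 fun he => PCore.not_dvd_card_pPrimeCore (p := 2)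
      (G := centralizer ({z} : Set G)) (he.two_dvd.trans ?_)
    exact Subgroup.orderOf_dvd_natCard _ hc
  · rintro ⟨hc, hodd⟩
    obtain ⟨K, hKn, hKodd, hKS⟩ := h.exists_complement hz hz1
    refine ⟨⟨x, mem_centralizer_singleton_iff.2 hc⟩, PCore.le_pPrimeCore
      ((Nat.prime_two.coprime_iff_not_dvd.2 fun hd => Nat.not_even_iff_odd.2 hKodd
        (even_iff_two_dvd.2 hd)).symm) ?_, rfl⟩
    set c : centralizer ({z} : Set G) := ⟨x, mem_centralizer_singleton_iff.2 hc⟩
    rw [← QuotientGroup.eq_one_iff, ← orderOf_eq_one_iff]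
    have h1 : orderOf (QuotientGroup.mk c : _ ⧸ K) ∣ orderOf x := by
      rw [show orderOf x = orderOf c from (Subgroup.orderOf_coe c)]
      exact orderOf_map_dvd (QuotientGroup.mk' K) c
    have h2 : orderOf (QuotientGroup.mk c : _ ⧸ K) ∣ 8 := by
      refine (_root_.orderOf_dvd_natCard _).trans (dvd_of_eq ?_)
      rw [← h.card_eight]
      exact hKS.symm.index_eq_card.trans (Nat.card_congr (subgroupOfEquivOfLe (h.le_centralizer_S hz)).toEquiv)
    have h3 := Nat.dvd_gcd h1 h2
    rw [(Nat.coprime_two_right.2 hodd).pow_right 3 |>.gcd_eq_one] at h3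
    exact Nat.eq_one_of_dvd_one h3

theorem odd_core (h : Hyp S) {z : G} (hz : z ∈ (S : Subgroup G)) (hz1 : z ≠ 1) : Odd (Nat.card (core z)) := by
  haveI : Fact (Nat.Prime 2) := ⟨Nat.prime_two⟩
  refine Nat.not_even_iff_odd.1 fun he => PCore.not_dvd_card_pPrimeCore (p := 2)
    (G := centralizer ({z} : Set G)) ?_
  rw [← card_map_of_injective (centralizer ({z} : Set G)).subtype_injective]
  exact he.two_dvd

theorem core_le_centralizer (_h : Hyp S) (z : G) : core z ≤ centralizer ({z} : Set G) := map_subtype_le _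

/-- `C(z) = O(C(z)) S`. -/
theorem exists_decomp (h : Hyp S) {z c : G} (hz : z ∈ (S : Subgroup G)) (hz1 : z ≠ 1) (hc : c * z = z * c) :
    ∃ o ∈ core z, ∃ s ∈ (S : Subgroup G), c = o * s := by
  haveI : Fact (Nat.Prime 2) := ⟨Nat.prime_two⟩
  obtain ⟨K, hKn, hKodd, hKS⟩ := h.exists_complement hz hz1
  obtain ⟨⟨⟨k, hk⟩, ⟨s, hs⟩⟩, he⟩ := hKS.2 (⟨c, mem_centralizer_singleton_iff.2 hc⟩ : centralizer ({z} : Set G))
  refine ⟨(k : G), (h.mem_core_iff hz hz1).2 ⟨mem_centralizer_singleton_iff.1 k.2, ?_⟩, (s : G), hs,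
    (congrArg Subtype.val he).symm⟩
  rw [orderOf_coe]
  exact hKodd.of_dvd_nat (Subgroup.orderOf_dvd_natCard _ hk)

theorem card_centralizer (h : Hyp S) {z : G} (hz : z ∈ (S : Subgroup G)) (hz1 : z ≠ 1) :
    Nat.card (centralizer ({z} : Set G)) = 8 * Nat.card (core z) := by
  haveI : Fact (Nat.Prime 2) := ⟨Nat.prime_two⟩
  obtain ⟨K, hKn, hKodd, hKS⟩ := h.exists_complement hz hz1
  have e : core z = K.map (centralizer ({z} : Set G)).subtype := by
    refine le_antisymm (fun x hx => ?_) (fun x hx => ?_)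
    · obtain ⟨c, hc, rfl⟩ := hx
      refine mem_map_of_mem _ ?_
      obtain ⟨hcz, hodd⟩ := (h.mem_core_iff hz hz1).1 (mem_map_of_mem _ hc :
        (centralizer ({z} : Set G)).subtype c ∈ core z)
      rw [Subgroup.subtype_apply, orderOf_coe] at hodd
      rw [← QuotientGroup.eq_one_iff, ← orderOf_eq_one_iff]
      have h2 : orderOf (QuotientGroup.mk c : _ ⧸ K) ∣ 8 := by
        refine (_root_.orderOf_dvd_natCard _).trans (dvd_of_eq ?_)
        rw [← h.card_eight]
        exact hKS.symm.index_eq_card.trans (Nat.card_congr (subgroupOfEquivOfLe (h.le_centralizer_S hz)).toEquiv)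
      have h3 := Nat.dvd_gcd (orderOf_map_dvd (QuotientGroup.mk' K) c) h2
      rw [(Nat.coprime_two_right.2 hodd).pow_right 3 |>.gcd_eq_one] at h3
      exact Nat.eq_one_of_dvd_one h3
    · obtain ⟨k, hk, rfl⟩ := hx
      refine (h.mem_core_iff hz hz1).2 ⟨mem_centralizer_singleton_iff.1 k.2, ?_⟩
      rw [Subgroup.subtype_apply, orderOf_coe]
      exact hKodd.of_dvd_nat (Subgroup.orderOf_dvd_natCard _ hk)
  rw [e, card_map_of_injective (centralizer ({z} : Set G)).subtype_injective, ← hKS.card_mul,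
    show Nat.card (S.subtype (h.le_centralizer_S hz) : Subgroup (centralizer ({z} : Set G))) = 8 from
      (Nat.card_congr (subgroupOfEquivOfLe (h.le_centralizer_S hz)).toEquiv).trans h.card_eight, mul_comm]

theorem conj_core (h : Hyp S) {z n : G} (hz : z ∈ (S : Subgroup G)) (hz1 : z ≠ 1)
    (hn : n ∈ normalizer ((S : Subgroup G) : Set G)) {x : G} (hx : x ∈ core z) :
    n * x * n⁻¹ ∈ core (n * z * n⁻¹) := by
  obtain ⟨hc, hodd⟩ := (h.mem_core_iff hz hz1).1 hx
  refine (h.mem_core_iff ((mem_normalizer_iff.1 hn z).1 hz) (fun e => hz1 (conj_eq_one_iff.1 e))).2 ⟨?_, ?_⟩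
  · rw [conj_mul, conj_mul, hc]
  · rwa [show n * x * n⁻¹ = MulAut.conj n x from rfl, MulEquiv.orderOf_eq]

theorem bigW_spec (h : Hyp S) : Odd (Nat.card (bigW S)) ∧
    ∀ a ∈ (S : Subgroup G), a ≠ 1 → bigW S ⊓ centralizer ({a} : Set G) = core a := by
  haveI : Fact (Nat.Prime 2) := ⟨Nat.prime_two⟩
  have hnd : ∀ a ∈ (S : Subgroup G), a ≠ 1 → ¬ 2 ∣ Nat.card (core a) := fun a ha ha1 hd =>
    Nat.not_even_iff_odd.2 (h.odd_core ha ha1) (even_iff_two_dvd.2 hd)
  have key := S0217.result (p := 2) (S : Subgroup G) (fun a ha b hb => h.comm ha hb)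
    (fun a ha => h.elem.2 a ha) (by rw [h.card_eight]; norm_num) (fun a => core a)
    (fun a _ _ => h.core_le_centralizer a) hnd
    (fun a ha ha1 b hb x hx => by
      have h1 := h.conj_core ha ha1 (le_normalizer hb) hx
      rwa [h.comm hb ha, mul_inv_cancel_right] at h1)
    (fun a ha ha1 => S0205.result (h.odd_core ha ha1))
    (fun a ha ha1 b hb hb1 x hx => by
      obtain ⟨hxa, hxb⟩ := mem_inf.1 hx
      exact (h.mem_core_iff hb hb1).2
        ⟨mem_centralizer_singleton_iff.1 hxb, ((h.mem_core_iff ha ha1).1 hxa).2⟩)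
  exact ⟨Nat.not_even_iff_odd.1 fun he => key.1 he.two_dvd, key.2⟩

theorem core_le_bigW (_h : Hyp S) {a : G} (ha : a ∈ (S : Subgroup G)) (ha1 : a ≠ 1) : core a ≤ bigW S :=
  le_iSup (fun b : {a : G // a ∈ (S : Subgroup G) ∧ a ≠ 1} => core b.1) ⟨a, ha, ha1⟩

theorem mem_normalizer_bigW (h : Hyp S) {n : G} (hn : n ∈ normalizer ((S : Subgroup G) : Set G)) :
    n ∈ normalizer (bigW S : Set G) := by
  rw [mem_normalizer_iff_map_conj_eq]
  refine eq_of_le_of_card_ge ?_ (card_map_of_injective (MulAut.conj n).injective).ge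
  rw [bigW, Subgroup.map_iSup]
  refine iSup_le fun a => ?_
  rintro y ⟨x, hx, rfl⟩
  exact h.core_le_bigW ((mem_normalizer_iff.1 hn a.1).1 a.2.1) (fun e => a.2.2 (conj_eq_one_iff.1 e))
    (h.conj_core a.2.1 a.2.2 hn hx)

theorem centralizer_le_normalizer (h : Hyp S) {z : G} (hz : z ∈ (S : Subgroup G)) (hz1 : z ≠ 1) :
    centralizer ({z} : Set G) ≤ normalizer (bigW S : Set G) := by
  intro c hc
  obtain ⟨o, ho, s, hs, rfl⟩ := h.exists_decomp hz hz1 (mem_centralizer_singleton_iff.1 hc)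
  exact mul_mem (le_normalizer (h.core_le_bigW hz hz1 ho)) (h.mem_normalizer_bigW (le_normalizer hs))

theorem card_core_eq (h : Hyp S) {a b : G} (ha : a ∈ (S : Subgroup G)) (ha1 : a ≠ 1)
    (hb : b ∈ (S : Subgroup G)) (hb1 : b ≠ 1) : Nat.card (core a) = Nat.card (core b) := by
  have le : ∀ {a b : G}, a ∈ (S : Subgroup G) → a ≠ 1 → b ∈ (S : Subgroup G) → b ≠ 1 →
      Nat.card (core a) ≤ Nat.card (core b) := by
    intro a b ha ha1 hb hb1
    obtain ⟨n, hn, rfl⟩ := h.exists_conj ha ha1 hb hb1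
    refine Nat.card_le_card_of_injective
      (fun x : core a => (⟨n * x * n⁻¹, h.conj_core ha ha1 hn x.2⟩ : core (n * a * n⁻¹))) fun x y e => ?_
    exact Subtype.ext (by simpa using congrArg Subtype.val e)
  exact le_antisymm (le ha ha1 hb hb1) (le hb hb1 ha ha1)

theorem invSet_mul (h : Hyp S) {a z : G} (hz : z ∈ (S : Subgroup G)) (hz1 : z ≠ 1) :
    invSet (core z) (z * a) = invSet (core z) a := by
  ext x
  simp only [mem_invSet, and_congr_right_iff]
  intro hx
  have hc := ((h.mem_core_iff hz hz1).1 hx).1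
  rw [show z * a * x * (z * a)⁻¹ = z * (a * x * a⁻¹) * z⁻¹ by group]
  constructor
  · intro e
    have e2 : a * x * a⁻¹ = z⁻¹ * x⁻¹ * z := by rw [← e]; group
    rw [e2, mul_assoc, ← Commute.inv_left (show Commute x z from hc) |>.symm.eq, inv_mul_cancel_left]
  · intro e
    rw [e, (Commute.inv_left (show Commute x z from hc)).symm.eq, mul_inv_cancel_right]

/-- The Brauer–Wielandt formula for the completion. -/
theorem card_bigW (h : Hyp S) {a z : G} (ha : a ∈ (S : Subgroup G)) (ha1 : a ≠ 1)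
    (hz : z ∈ (S : Subgroup G)) (hz1 : z ≠ 1) (hne : a ≠ z) :
    Nat.card (bigW S) = Nat.card (core z) * Nat.card (invSet (core z) a) * Nat.card (invSet (core z) a) := by
  obtain ⟨hodd, hinf⟩ := h.bigW_spec
  have hmem : ∀ {s : G}, s ∈ (S : Subgroup G) → s ∈ normalizer (bigW S : Set G) := fun hs =>
    h.mem_normalizer_bigW (le_normalizer hs)
  have haz : a * z ∈ (S : Subgroup G) := mul_mem ha hz
  have haz1 : a * z ≠ 1 := fun e => hne (by rw [eq_inv_of_mul_eq_one_left e, h.inv_eq hz])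
  have hN : ∀ {t : G}, t ∈ (S : Subgroup G) → t ≠ 1 → a ∈ normalizer (core t : Set G) := by
    intro t ht ht1
    rw [← hinf t ht ht1]
    exact inf_normalizer_le_normalizer_inf ⟨hmem ha, le_normalizer (h.le_centralizer_S ht ha)⟩
  have f1 := card_fix_mul_card_invSet hodd (h.sq ha) (hmem ha)
  have f2 := card_invSet_eq hodd (h.sq hz) (h.comm ha hz) (hmem hz) (W := bigW S)
  rw [hinf z hz hz1, hinf (a * z) haz haz1] at f2
  rw [hinf a ha ha1] at f1
  have gz := card_fix_mul_card_invSet (h.odd_core hz hz1) (h.sq ha) (hN hz hz1)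
  have gaz := card_fix_mul_card_invSet (h.odd_core haz haz1) (h.sq ha) (hN haz haz1)
  have hfix : core z ⊓ centralizer ({a} : Set G) = core (a * z) ⊓ centralizer ({a} : Set G) := by
    ext x
    simp only [mem_inf, mem_centralizer_singleton_iff, h.mem_core_iff hz hz1, h.mem_core_iff haz haz1]
    constructor
    · rintro ⟨⟨h1, h2⟩, h3⟩
      exact ⟨⟨(Commute.mul_right (show Commute x a from h3) h1).eq, h2⟩, h3⟩
    · rintro ⟨⟨h1, h2⟩, h3⟩
      refine ⟨⟨?_, h2⟩, h3⟩
      have := ((show Commute x a from h3).inv_right.mul_right h1).eq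
      rwa [inv_mul_cancel_left] at this
  have hJ : Nat.card (invSet (core (a * z)) a) = Nat.card (invSet (core z) a) := by
    rw [← hfix, h.card_core_eq haz haz1 hz hz1, gz] at gaz
    exact (Nat.eq_of_mul_eq_mul_left Nat.card_pos gaz).symm
  rw [f1, f2, hJ, h.card_core_eq ha ha1 hz hz1, mul_assoc]

end Hyp

end Cfsg.Agent.EightSeven
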